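import Groth.Agent.Vanish.K31.SectB
import Groth.Agent.Vanish.K909.AltInterface
import Groth.Agent.CohqB.AmpGeneric
import Groth.Agent.S9816
import Groth.Agent.S9829
import Mathlib.AlgebraicGeometry.SpreadingOut

/-!
# Alterations with sections

`sect`: a surjective morphism `φ : X ⟶ P` of projective varieties over an algebraically closed field of characteristic zero
becomes, after an alteration `Y₁ ⟶ P` with `Y₁` smooth projective and an alteration `X₂ ⟶ X` with `X₂` normal projective, a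
morphism `ψ : X₂ ⟶ Y₁` with a section and connected fibres.
-/

set_option autoImplicit false
universe u

open CategoryTheory CategoryTheory.Limits AlgebraicGeometry TopologicalSpace

namespace K31.Sect

open Groth.Agent Groth.Agent.CycB.RelDim K31.SectA K31.SectB

/-- A point with a domain as local ring has an integral open neighbourhood inside a given one. -/
theorem exists_integral_nhd {X : Scheme.{u}} [IsLocallyNoetherian X] (s : X) [IsDomain (X.presheaf.stalk s)] (V₀ : X.Opens)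
    (hs : s ∈ V₀) : ∃ V : X.Opens, s ∈ V ∧ V ≤ V₀ ∧ IsIntegral (V : Scheme.{u}) := by
  obtain ⟨W, hyW, hW, hinj⟩ := X.exists_germ_injective s
  have h1 : IsDomain Γ(X, W) := Function.Injective.isDomain (X.presheaf.germ W s hyW).hom hinj
  have h2 : IsDomain Γ(W, ⊤) := MulEquiv.isDomain Γ(X, W) (W.topIso.commRingCatIsoToRingEquiv.toMulEquiv)
  have : IsAffine W := hW
  have : Nonempty W := ⟨⟨s, hyW⟩⟩
  have hWi : IsIntegral (W : Scheme.{u}) := isIntegral_of_isAffine_of_isDomain _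
  refine ⟨W ⊓ V₀, ⟨hyW, hs⟩, inf_le_right, ?_⟩
  have : Nonempty (W ⊓ V₀ : X.Opens) := ⟨⟨s, hyW, hs⟩⟩
  exact isIntegral_of_isOpenImmersion (X.homOfLE (inf_le_left : W ⊓ V₀ ≤ W))

/-- The irreducible component through a point with an integral neighbourhood. -/
theorem exists_component {X : Scheme.{u}} (V : X.Opens) [IsIntegral (V : Scheme.{u})] :
    ∃ (P₂ : Scheme.{u}) (j₂ : P₂ ⟶ X) (_ : IsClosedImmersion j₂) (_ : IsIntegral P₂),
      j₂ (genericPoint P₂) = V.ι (genericPoint V) ∧ IsIso (j₂ ∣_ V) := by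
  obtain ⟨P₂, j₂, hj₂, hP₂, h⟩ := CohqA.IntClosed.exists_integral (V.ι (genericPoint V))
  refine ⟨P₂, j₂, hj₂, hP₂, h, ?_⟩
  have hmem : genericPoint P₂ ∈ j₂ ⁻¹ᵁ V := by
    change j₂ (genericPoint P₂) ∈ V
    rw [h]
    exact (genericPoint V).2
  have h1 : (j₂ ∣_ V) ⟨genericPoint P₂, hmem⟩ = genericPoint V := by
    apply V.ι.injective
    have h2 : V.ι ((j₂ ∣_ V) ⟨genericPoint P₂, hmem⟩) = j₂ (genericPoint P₂) :=
      congrArg (fun f : (j₂ ⁻¹ᵁ V).toScheme ⟶ X => f ⟨genericPoint P₂, hmem⟩) (morphismRestrict_ι j₂ V)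
    rw [h2, h]
  have hsurj : Surjective (j₂ ∣_ V) := by
    refine ⟨Set.range_eq_univ.1 (Set.univ_subset_iff.1 ?_)⟩
    have h3 : IsClosed (Set.range (j₂ ∣_ V)) := (j₂ ∣_ V).isClosedMap.isClosed_range
    rw [← (genericPoint_spec (V : Scheme.{u})).def]
    exact h3.closure_subset_iff.2 (Set.singleton_subset_iff.2 ⟨_, h1⟩)
  exact isIso_of_isClosedImmersion_of_surjective _

/-- Regularity of local rings at points over an open over which a morphism is an isomorphism. -/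
theorem isRegular_of_isIso {X Y : Scheme.{u}} (f : X ⟶ Y) (V : Y.Opens) [IsIso (f ∣_ V)] (z : X) (hz : z ∈ f ⁻¹ᵁ V)
    (h : IsRegularLocalRing (Y.presheaf.stalk (f z))) : IsRegularLocalRing (X.presheaf.stalk z) := by
  have h1 : IsIso (f.stalkMap z) := by
    have h2 : IsIso ((f ∣_ V).stalkMap ⟨z, hz⟩) := inferInstance
    exact ((MorphismProperty.isomorphisms _).arrow_mk_iso_iff (morphismRestrictStalkMap f V ⟨z, hz⟩)).1 h2
  exact IsRegularLocalRing.of_ringEquiv (asIso (f.stalkMap z)).commRingCatIsoToRingEquiv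

/-- **Alterations with sections.** -/
theorem sect {k : Type u} [Field k] [IsAlgClosed k] [CharZero k] (hAlt : K909.AltInterface.Alt k) {X P : Scheme.{u}}
    (x : X ⟶ Spec (CommRingCat.of k)) (p : P ⟶ Spec (CommRingCat.of k)) [IsIntegral X] [IsIntegral P] [IsProper x]
    [IsProper p] (H : X.Modules) (hH : CohB1.IsAmple H) (φ : X ⟶ P) [Surjective φ] (hφ : φ ≫ p = x) :
    ∃ (X2 Y1 : Scheme.{u}) (τ : Y1 ⟶ P) (q : X2 ⟶ X) (ψ : X2 ⟶ Y1) (σ : Y1 ⟶ X2), IsIntegral X2 ∧ IsIntegral Y1 ∧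
      IsProper τ ∧ Surjective τ ∧ topologicalKrullDim Y1 = topologicalKrullDim P ∧ Smooth (τ ≫ p) ∧
      (∃ A : Y1.Modules, CohB1.IsAmple A) ∧ IsProper q ∧ Surjective q ∧
      topologicalKrullDim X2 = topologicalKrullDim X ∧ (∃ A : X2.Modules, CohB1.IsAmple A) ∧
      (∀ z : X2, IsIntegrallyClosed (X2.presheaf.stalk z)) ∧ q ≫ φ = ψ ≫ τ ∧ σ ≫ ψ = 𝟙 Y1 ∧
      (∀ y : Y1, _root_.IsPreconnected (ψ ⁻¹' {y})) := by
  have hφp : IsProper φ := by
    have : IsProper (φ ≫ p) := by rw [hφ]; infer_instance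
    exact IsProper.of_comp φ p
  obtain ⟨U, v, hvU, hs, hφv, hrv⟩ := exists_point x p φ hφ
  obtain ⟨T, j, hj, hT, hjv⟩ := CohqA.IntClosed.exists_integral v
  obtain ⟨Y, π, A₁, r, D, hY, hsm, hπp, hπs, hdimπ, hA₁, -, -, -⟩ := hAlt T (j ≫ x)
    ((Scheme.Modules.pullback j).obj H) (CohqB.AmpCocycle.isAmple_pullback j hH) ∅ isClosed_empty
    (Set.empty_ne_univ (α := T))
  have hπη : π (genericPoint Y) = genericPoint T := map_genericPoint π
  -- the base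
  obtain ⟨τ, hτ⟩ : ∃ τ : Y ⟶ P, τ = π ≫ j ≫ φ := ⟨_, rfl⟩
  have hτp : IsProper τ := by rw [hτ]; infer_instance
  have hτη : τ (genericPoint Y) = genericPoint P := by
    rw [hτ, Scheme.Hom.comp_apply, hπη, Scheme.Hom.comp_apply, hjv, hφv]
  have hτs : Surjective τ := surjective_of_map_genericPoint τ hτη
  have hτx : τ ≫ p = π ≫ j ≫ x := by rw [hτ, Category.assoc, Category.assoc, hφ]
  have hsmτ : Smooth (τ ≫ p) := by rw [hτx]; exact hsm
  have hdT : topologicalKrullDim T = topologicalKrullDim P := dim_eq_of_rtd (j ≫ x) p (by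
    rw [rtd_comp, rtd_eq_zero_of_isPreimmersion j, add_zero, hjv, ← hφ, rtd_comp, hrv, add_zero, hφv])
  have hdY : topologicalKrullDim Y = topologicalKrullDim P := hdimπ.trans hdT
  have hone : ∀ y : Y, τ y = genericPoint P → y = genericPoint Y := by
    intro y hy
    by_contra hne
    have h1 := rtd_lt_of_specializes (τ ≫ p) (genericPoint_specializes y) (Ne.symm hne) (by
      rw [Scheme.Hom.comp_apply, Scheme.Hom.comp_apply, hτη, hy])
    rw [rtd_eq_of_dim (τ ≫ p) p hdY, rtd_comp, hy] at h1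
    exact absurd h1 (not_lt.2 (self_le_add_right _ _))
  obtain ⟨V, hηV, hfin, hflat⟩ := exists_finite_flat_open τ hone
  -- the fibre product
  obtain ⟨X', F, G, hX', hF, hG⟩ : ∃ (X' : Scheme.{u}) (F : X' ⟶ X) (G : X' ⟶ Y) (h : X' = pullback φ τ),
      F = eqToHom h ≫ pullback.fst φ τ ∧ G = eqToHom h ≫ pullback.snd φ τ := ⟨_, _, _, rfl, rfl, rfl⟩
  subst hX'
  rw [eqToHom_refl, Category.id_comp] at hF hG
  have hsq : IsPullback F G φ τ := by rw [hF, hG]; exact IsPullback.of_hasPullback φ τ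
  have hFp : IsProper F := MorphismProperty.of_isPullback hsq.flip hτp
  have hGp : IsProper G := MorphismProperty.of_isPullback hsq hφp
  have hloc : IsLocallyNoetherian (pullback φ τ) := LocallyOfFiniteType.isLocallyNoetherian (G ≫ τ ≫ p)
  obtain ⟨σ₀, hσF, hσG⟩ : ∃ σ₀ : Y ⟶ pullback φ τ, σ₀ ≫ F = π ≫ j ∧ σ₀ ≫ G = 𝟙 Y :=
    ⟨hsq.lift (π ≫ j) (𝟙 Y) (by rw [Category.id_comp, hτ, Category.assoc]), hsq.lift_fst _ _ _, hsq.lift_snd _ _ _⟩
  have hFs : F (σ₀ (genericPoint Y)) = v := by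
    rw [← Scheme.Hom.comp_apply, hσF, Scheme.Hom.comp_apply, hπη, hjv]
  have hGs : G (σ₀ (genericPoint Y)) = genericPoint Y := by
    rw [← Scheme.Hom.comp_apply, hσG]; rfl
  have hsV₀ : σ₀ (genericPoint Y) ∈ F ⁻¹ᵁ U := by
    change F (σ₀ (genericPoint Y)) ∈ U
    rw [hFs]; exact hvU
  have hsmV : Smooth ((F ⁻¹ᵁ U).ι ≫ G) :=
    MorphismProperty.of_isPullback ((isPullback_morphismRestrict F U).paste_vert hsq) hs
  have hreg : ∀ t : (pullback φ τ : Scheme.{u}), t ∈ F ⁻¹ᵁ U → IsRegularLocalRing ((pullback φ τ).presheaf.stalk t) := by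
    intro t ht
    have hsm' : Smooth ((F ⁻¹ᵁ U).ι ≫ G ≫ τ ≫ p) := by rw [← Category.assoc]; infer_instance
    have h1 : IsRegularLocalRing ((F ⁻¹ᵁ U).toScheme.presheaf.stalk ⟨t, ht⟩) :=
      VarietyA.RegSmoothSch.isRegularLocalRing_stalk_of_mem_smoothLocus ((F ⁻¹ᵁ U).ι ≫ G ≫ τ ≫ p) ⟨t, ht⟩ (by
        rw [Scheme.Hom.smoothLocus_eq_top]; trivial)
    exact IsRegularLocalRing.of_ringEquiv (asIso ((F ⁻¹ᵁ U).ι.stalkMap ⟨t, ht⟩)).symm.commRingCatIsoToRingEquiv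
  have hdom : IsDomain ((pullback φ τ).presheaf.stalk (σ₀ (genericPoint Y))) := by
    have := hreg _ hsV₀
    exact (S2821.result _).1
  obtain ⟨V', hsV', hV'le, hV'i⟩ := exists_integral_nhd (σ₀ (genericPoint Y)) (F ⁻¹ᵁ U) hsV₀
  obtain ⟨P₂, j₂, hj₂, hP₂, hξ, hiso₂⟩ := exists_component V'
  obtain ⟨X₂, ρ, hX₂, hρ, hρs, hnorm, hρiso⟩ := exists_norm (j₂ ≫ G ≫ τ ≫ p)
  have hRreg : ∀ t : P₂, t ∈ j₂ ⁻¹ᵁ V' → IsRegularLocalRing (P₂.presheaf.stalk t) := fun t ht =>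
    isRegular_of_isIso j₂ V' t ht (hreg _ (hV'le ht))
  have hisoR : IsIso (ρ ∣_ (j₂ ⁻¹ᵁ V')) := hρiso _ hRreg
  -- the section
  have hspec : ∀ t : (pullback φ τ : Scheme.{u}), t ∈ V' → V'.ι (genericPoint V') ⤳ t := fun t ht => by
    obtain ⟨w, rfl⟩ : ∃ w : V'.toScheme, V'.ι w = t := ⟨⟨t, ht⟩, rfl⟩
    exact (genericPoint_specializes w).map V'.ι.continuous
  have hξs : V'.ι (genericPoint V') ⤳ σ₀ (genericPoint Y) := hspec _ hsV'
  obtain ⟨σ₁, hσ₁⟩ : ∃ σ₁ : Y ⟶ P₂, σ₁ ≫ j₂ = σ₀ := by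
    refine Ega1.ReducedSub.exists_factor_of_range_subset σ₀ j₂ ?_
    have hcl : IsClosed (Set.range j₂) := j₂.isClosedMap.isClosed_range
    rintro _ ⟨y, rfl⟩
    have h1 : σ₀ (genericPoint Y) ∈ Set.range j₂ := hξs.mem_closed hcl ⟨genericPoint P₂, hξ⟩
    exact ((genericPoint_specializes y).map σ₀.continuous).mem_closed hcl h1
  have hσ₁R : σ₁ (genericPoint Y) ∈ j₂ ⁻¹ᵁ V' := by
    change j₂ (σ₁ (genericPoint Y)) ∈ V'
    rw [← Scheme.Hom.comp_apply, hσ₁]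
    exact hsV'
  have hYloc : IsLocallyNoetherian Y := LocallyOfFiniteType.isLocallyNoetherian (τ ≫ p)
  have hYn : ∀ y : Y, IsIntegrallyClosed (Y.presheaf.stalk y) := by
    intro y
    have h1 : IsRegularLocalRing (Y.presheaf.stalk y) :=
      VarietyA.RegSmoothSch.isRegularLocalRing_stalk_of_mem_smoothLocus (τ ≫ p) y (by
        rw [Scheme.Hom.smoothLocus_eq_top]; trivial)
    exact S9829.result _
  obtain ⟨σ, hσ⟩ := exists_lift hYn ρ σ₁ (j₂ ⁻¹ᵁ V') hσ₁R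
  have hσψ : σ ≫ ρ ≫ j₂ ≫ G = 𝟙 Y := by
    rw [← Category.assoc, hσ, ← Category.assoc, hσ₁, hσG]
  -- dominance over `X`
  have hGξ : G (V'.ι (genericPoint V')) = genericPoint Y := by
    have h1 := hξs.map G.continuous
    rw [hGs] at h1
    exact (h1.antisymm (genericPoint_specializes _)).eq
  have hφF : φ (F (V'.ι (genericPoint V'))) = genericPoint P := by
    rw [← Scheme.Hom.comp_apply, hsq.w, Scheme.Hom.comp_apply, hGξ, hτη]
  have hmax : ∀ t : (pullback φ τ : Scheme.{u}), t ⤳ V'.ι (genericPoint V') → t = V'.ι (genericPoint V') := by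
    intro t ht
    have htV : t ∈ V' := ht.mem_open V'.isOpen (genericPoint V').2
    exact (ht.antisymm (hspec t htV)).eq
  have hFflat : Flat (F ∣_ (φ ⁻¹ᵁ V)) := by rw [hF]; exact restrict_fst @Flat φ τ V hflat
  have hFfin : IsFinite (F ∣_ (φ ⁻¹ᵁ V)) := by rw [hF]; exact restrict_fst @IsFinite φ τ V hfin
  have hξW : V'.ι (genericPoint V') ∈ F ⁻¹ᵁ (φ ⁻¹ᵁ V) := by
    change φ (F (V'.ι (genericPoint V'))) ∈ V
    rw [hφF]; exact hηV
  have hηW : genericPoint X ∈ φ ⁻¹ᵁ V := by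
    change φ (genericPoint X) ∈ V
    rw [map_genericPoint φ]; exact hηV
  obtain ⟨w₀, hw₀⟩ : ∃ w₀ : (F ⁻¹ᵁ (φ ⁻¹ᵁ V)).toScheme, (F ⁻¹ᵁ (φ ⁻¹ᵁ V)).ι w₀ = V'.ι (genericPoint V') := ⟨⟨_, hξW⟩, rfl⟩
  obtain ⟨e₀, he₀⟩ : ∃ e₀ : (φ ⁻¹ᵁ V).toScheme, (φ ⁻¹ᵁ V).ι e₀ = genericPoint X := ⟨⟨_, hηW⟩, rfl⟩
  have hcomp : ∀ w : (F ⁻¹ᵁ (φ ⁻¹ᵁ V)).toScheme, F ((F ⁻¹ᵁ (φ ⁻¹ᵁ V)).ι w) = (φ ⁻¹ᵁ V).ι ((F ∣_ (φ ⁻¹ᵁ V)) w) := fun w =>
    congrArg (fun f : (F ⁻¹ᵁ (φ ⁻¹ᵁ V)).toScheme ⟶ X => f w) (morphismRestrict_ι F (φ ⁻¹ᵁ V)).symm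
  have hFξ : F (V'.ι (genericPoint V')) = genericPoint X := by
    have h1 : e₀ ⤳ (F ∣_ (φ ⁻¹ᵁ V)) w₀ := by
      refine (φ ⁻¹ᵁ V).ι.isOpenEmbedding.isInducing.specializes_iff.1 ?_
      rw [he₀]
      exact genericPoint_specializes _
    obtain ⟨w, hw1, hw2⟩ := Flat.generalizingMap (F ∣_ (φ ⁻¹ᵁ V)) h1
    have h2 := hw1.map (F ⁻¹ᵁ (φ ⁻¹ᵁ V)).ι.continuous
    rw [hw₀] at h2
    have h3 := hcomp w
    rw [hw2, hmax _ h2, he₀] at h3
    exact h3
  have hrF : rtd F (V'.ι (genericPoint V')) = 0 := by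
    have h1 := rtd_comp (F ⁻¹ᵁ (φ ⁻¹ᵁ V)).ι F w₀
    have h2 := rtd_comp (F ∣_ (φ ⁻¹ᵁ V)) (φ ⁻¹ᵁ V).ι w₀
    rw [morphismRestrict_ι, rtd_eq_zero_of_isPreimmersion (φ ⁻¹ᵁ V).ι,
      Sga2lef.H134.DimCl.rtd_eq_zero_of_isIntegralHom (F ∣_ (φ ⁻¹ᵁ V)), add_zero] at h2
    rw [h2, hw₀] at h1
    exact (add_eq_zero.1 h1.symm).1
  have hρη : ρ (genericPoint X₂) = genericPoint P₂ := map_genericPoint ρ
  have hqη : (ρ ≫ j₂ ≫ F) (genericPoint X₂) = genericPoint X := by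
    rw [Scheme.Hom.comp_apply, hρη, Scheme.Hom.comp_apply, hξ, hFξ]
  have hqs : Surjective (ρ ≫ j₂ ≫ F) := surjective_of_map_genericPoint _ hqη
  have hdX : topologicalKrullDim X₂ = topologicalKrullDim X := dim_eq_of_rtd (ρ ≫ j₂ ≫ F ≫ x) x (by
    rw [rtd_comp, rtd_comp, rtd_comp, hρη, hξ, hFξ, hrF, rtd_eq_zero_of_isPreimmersion j₂,
      Sga2lef.H134.DimCl.rtd_eq_zero_of_isIntegralHom ρ, add_zero, add_zero, add_zero])
  refine ⟨X₂, Y, τ, ρ ≫ j₂ ≫ F, ρ ≫ j₂ ≫ G, σ, hX₂, hY, hτp, hτs, hdY, hsmτ, ⟨A₁, hA₁⟩, inferInstance, hqs, hdX, ?_,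
    hnorm, ?_, hσψ, ?_⟩
  · have : QuasiSeparatedSpace P := by
      have : P.IsSeparated := by
        refine ⟨?_⟩
        have : terminal.from P = p ≫ terminal.from _ := Subsingleton.elim _ _
        rw [this]
        infer_instance
      infer_instance
    exact ⟨_, CohqB.AmpCocycle.isAmple_pullback ρ (CohqB.AmpCocycle.isAmple_pullback j₂ (S9816.result φ τ H A₁ hH hA₁))⟩
  · rw [Category.assoc, Category.assoc, Category.assoc, Category.assoc, hsq.w]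
  · exact isPreconnected_fibre (ρ ≫ j₂ ≫ G) σ hσψ

end K31.Sect
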