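import Groth.Agent.CohqB.HPush

/-!
# Surjectivity of `H^b(φ)`: isomorphisms, retracts, affine push-forward
-/

set_option autoImplicit false
universe u

open CategoryTheory CategoryTheory.Limits AlgebraicGeometry Opposite TopologicalSpace

namespace K31.HNat

open Groth.Agent.CohqB.PushTop Groth.Agent.CohqB.HPush

variable {X Y : Scheme.{u}}

/-- `H^b` of a morphism of modules. -/
noncomputable def Hm {M N : X.Modules} (φ : M ⟶ N) (b : ℕ) : Coh.HH X M b →+ Coh.HH X N b :=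
  Sheaf.H.map ((SheafOfModules.toSheaf X.ringCatSheaf).map φ) b

theorem Hm_comp {M N P : X.Modules} (φ : M ⟶ N) (ψ : N ⟶ P) (b : ℕ) (x : Coh.HH X M b) :
    Hm ψ b (Hm φ b x) = Hm (φ ≫ ψ) b x := by
  change Sheaf.H.map _ b (Sheaf.H.map _ b x) = Sheaf.H.map ((SheafOfModules.toSheaf X.ringCatSheaf).map (φ ≫ ψ)) b x
  rw [Functor.map_comp, Sheaf.H.map_comp_apply]

theorem Hm_id (M : X.Modules) (b : ℕ) (x : Coh.HH X M b) : Hm (𝟙 M) b x = x := by
  have h : (SheafOfModules.toSheaf X.ringCatSheaf).map (𝟙 M) = 𝟙 _ :=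
    (SheafOfModules.toSheaf X.ringCatSheaf).map_id M
  change Sheaf.H.map ((SheafOfModules.toSheaf X.ringCatSheaf).map (𝟙 M)) b x = x
  refine (congrArg (fun u => Sheaf.H.map u b x) h).trans ?_
  exact Sheaf.H.map_id_apply x

/-- `H^b` of a morphism of modules is surjective. -/
def Surj {M N : X.Modules} (φ : M ⟶ N) (b : ℕ) : Prop := Function.Surjective (Hm φ b)

/-- Retracts. -/
theorem Surj.of_retract {M M' N N' : X.Modules} {φ : M ⟶ N} {φ' : M' ⟶ N'} (r : M' ⟶ M)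
    (i' : N ⟶ N') (r' : N' ⟶ N) (hr : φ' ≫ r' = r ≫ φ) (hi : i' ≫ r' = 𝟙 N)
    {b : ℕ} (hs : Surj φ' b) : Surj φ b := by
  intro t
  obtain ⟨s, hs'⟩ := hs (Hm i' b t)
  refine ⟨Hm r b s, ?_⟩
  rw [Hm_comp, ← hr, ← Hm_comp, hs', Hm_comp, hi, Hm_id]

theorem subsingleton_of_retract {M M' : X.Modules} (i : M ⟶ M') (r : M' ⟶ M) (h : i ≫ r = 𝟙 M) {b : ℕ}
    (hs : Subsingleton (Coh.HH X M' b)) : Subsingleton (Coh.HH X M b) := by
  refine ⟨fun x y => ?_⟩
  rw [← Hm_id M b x, ← Hm_id M b y, ← h, ← Hm_comp, ← Hm_comp, hs.elim (Hm i b x) (Hm i b y)]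

theorem Surj.of_iso {M M' N N' : X.Modules} {φ : M ⟶ N} {φ' : M' ⟶ N'} (e : M ≅ M') (e' : N ≅ N')
    (h : φ ≫ e'.hom = e.hom ≫ φ') {b : ℕ} (hs : Surj φ' b) : Surj φ b := by
  refine hs.of_retract e.inv e'.hom e'.inv ?_ e'.hom_inv_id
  rw [Iso.comp_inv_eq, Category.assoc, h, Iso.inv_hom_id_assoc]

theorem subsingleton_of_iso {M M' : X.Modules} (e : M ≅ M') {b : ℕ} (hs : Subsingleton (Coh.HH X M' b)) :
    Subsingleton (Coh.HH X M b) :=
  subsingleton_of_retract e.hom e.inv e.hom_inv_id hs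

/-- Affine push-forward. -/
theorem Surj.push (p : X ⟶ Y) [IsAffineHom p] {M N : X.Modules} (hM : Coh.IsQCoh M) (hN : Coh.IsQCoh N) {φ : M ⟶ N}
    {b : ℕ} (hs : Surj φ b) : Surj ((Scheme.Modules.pushforward p).map φ) b := by
  have h1 := pushH_bijective (X := X.toTopCat) (Y := Y.toTopCat) p.base (AffB Y) isBasis_affB (Coh.toAb M)
    (q_of_affine p hM) b
  have h2 := pushH_bijective (X := X.toTopCat) (Y := Y.toTopCat) p.base (AffB Y) isBasis_affB (Coh.toAb N)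
    (q_of_affine p hN) b
  intro t
  obtain ⟨s, hs'⟩ := hs (pushH p.base (Coh.toAb N) b t)
  obtain ⟨s', rfl⟩ := h1.2 s
  refine ⟨s', h2.1 ?_⟩
  rw [← hs']
  exact pushH_map p.base ((SheafOfModules.toSheaf X.ringCatSheaf).map φ) b s'

theorem subsingleton_push (p : X ⟶ Y) [IsAffineHom p] {M : X.Modules} (hM : Coh.IsQCoh M) {b : ℕ}
    (hs : Subsingleton (Coh.HH X M b)) : Subsingleton (Coh.HH Y ((Scheme.Modules.pushforward p).obj M) b) := by
  have h1 := pushH_bijective (X := X.toTopCat) (Y := Y.toTopCat) p.base (AffB Y) isBasis_affB (Coh.toAb M)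
    (q_of_affine p hM) b
  exact ⟨fun x y => h1.1 (hs.elim _ _)⟩

end K31.HNat
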