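import Groth.Agent.Vanish.K911.Ncd
import Groth.Agent.CalgB.SmoothReduced
import Mathlib.RingTheory.TensorProduct.Quotient
import Mathlib.Algebra.MvPolynomial.Nilpotent
import Mathlib.RingTheory.MvPolynomial.Ideal
import Mathlib.Algebra.MvPolynomial.Division
import Mathlib.RingTheory.Smooth.Basic
import Mathlib.RingTheory.Etale.Basic

/-!
# The product of the components of a normal crossing divisor is a radical ideal
-/

set_option autoImplicit false
universe u v

open CategoryTheory CategoryTheory.Limits AlgebraicGeometry TopologicalSpace Opposite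

namespace K31.NcdRad

section Alg

open MvPolynomial TensorProduct

variable {σ : Type u} {R : Type u} [CommRing R]

theorem mem_span_X_iff (i : σ) (p : MvPolynomial σ R) :
    p ∈ Ideal.span {(X i : MvPolynomial σ R)} ↔ ∀ m ∈ p.support, m i ≠ 0 := by
  have h := MvPolynomial.mem_ideal_span_X_image (x := p) (s := {i})
  rw [Set.image_singleton] at h
  simpa using h

/-- A product of distinct coordinates generates the intersection of the coordinate ideals. -/
theorem mem_span_prod_iff (s : Finset σ) (p : MvPolynomial σ R) :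
    p ∈ Ideal.span {∏ i ∈ s, (X i : MvPolynomial σ R)} ↔ ∀ i ∈ s, p ∈ Ideal.span {(X i : MvPolynomial σ R)} := by
  classical
  have h1 : ∏ i ∈ s, (X i : MvPolynomial σ R) = monomial (∑ i ∈ s, Finsupp.single i 1) 1 :=
    (MvPolynomial.monomial_sum_one s fun i => Finsupp.single i 1).symm
  have h2 := MvPolynomial.mem_ideal_span_monomial_image (R := R) (x := p) (s := {∑ i ∈ s, Finsupp.single i 1})
  rw [Set.image_singleton] at h2
  rw [h1, h2]
  constructor
  · intro h i hi
    rw [mem_span_X_iff]
    intro m hm
    obtain ⟨_, rfl, h3⟩ := h m hm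
    have h4 := h3 i
    rw [Finsupp.finsetSum_apply] at h4
    have h5 : 1 ≤ ∑ j ∈ s, (Finsupp.single j 1 : σ →₀ ℕ) i := by
      have := Finset.single_le_sum (f := fun j => (Finsupp.single j 1 : σ →₀ ℕ) i) (fun _ _ => Nat.zero_le _) hi
      simpa using this
    omega
  · intro h m hm
    refine ⟨_, rfl, fun i => ?_⟩
    rw [Finsupp.finsetSum_apply]
    by_cases hi : i ∈ s
    · have h3 := (mem_span_X_iff i p).1 (h i hi) m hm
      have h4 : ∑ j ∈ s, (Finsupp.single j 1 : σ →₀ ℕ) i = 1 := by
        rw [Finset.sum_eq_single i]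
        · simp
        · intro j _ hj
          simp [hj]
        · intro h; exact absurd hi h
      omega
    · have h4 : ∑ j ∈ s, (Finsupp.single j 1 : σ →₀ ℕ) i = 0 := by
        refine Finset.sum_eq_zero fun j hj => ?_
        have : j ≠ i := fun e => hi (e ▸ hj)
        simp [this]
      omega

theorem isRadical_span_X [_root_.IsReduced R] (i : σ) : (Ideal.span {(X i : MvPolynomial σ R)}).IsRadical := by
  classical
  let I : Ideal (MvPolynomial σ R) := Ideal.span {(X i : MvPolynomial σ R)}
  let φ : MvPolynomial σ R →ₐ[R] MvPolynomial σ R := aeval (Function.update X i 0)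
  have h1 : (Ideal.Quotient.mkₐ R I).comp φ = Ideal.Quotient.mkₐ R I := by
    apply MvPolynomial.algHom_ext
    intro j
    rw [AlgHom.comp_apply, aeval_X]
    by_cases hj : j = i
    · subst hj
      rw [Function.update_self, map_zero]
      symm
      exact Ideal.Quotient.eq_zero_iff_mem.2 (Ideal.mem_span_singleton_self _)
    · rw [Function.update_of_ne hj]
  have h2 : ∀ p ∈ I, φ p = 0 := by
    intro p hp
    obtain ⟨q, rfl⟩ := Ideal.mem_span_singleton.1 hp
    rw [map_mul, aeval_X, Function.update_self, zero_mul]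
  intro p hp
  obtain ⟨n, hn⟩ := hp
  have h3 : φ p = 0 := by
    have h4 := h2 _ hn
    rw [map_pow] at h4
    exact _root_.IsReduced.eq_zero _ ⟨n, h4⟩
  have h4 : Ideal.Quotient.mkₐ R I p = 0 := by
    rw [← h1, AlgHom.comp_apply, h3, map_zero]
  exact Ideal.Quotient.eq_zero_iff_mem.1 h4

theorem isRadical_span_prod [_root_.IsReduced R] (s : Finset σ) :
    (Ideal.span {∏ i ∈ s, (X i : MvPolynomial σ R)}).IsRadical := by
  intro p hp
  obtain ⟨n, hn⟩ := hp
  rw [mem_span_prod_iff] at hn ⊢
  exact fun i hi => isRadical_span_X i ⟨n, hn i hi⟩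

/-- Radical ideals extend to radical ideals along étale algebras. -/
theorem isRadical_map_of_etale {P A : Type u} [CommRing P] [CommRing A] [Algebra P A] [Algebra.Etale P A] {J : Ideal P}
    (hJ : J.IsRadical) : (J.map (algebraMap P A)).IsRadical := by
  have h1 : _root_.IsReduced (P ⧸ J) := (Ideal.isRadical_iff_quotient_reduced J).1 hJ
  have h2 : _root_.IsReduced ((P ⧸ J) ⊗[P] A) := Groth.Agent.CalgB.SmoothReduced.isReduced_of_smooth (P ⧸ J) _
  rw [Ideal.isRadical_iff_quotient_reduced]
  exact isReduced_of_injective (Algebra.TensorProduct.quotIdealMapEquivQuotTensor A J).toRingEquiv.toRingHom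
    (Algebra.TensorProduct.quotIdealMapEquivQuotTensor A J).injective

end Alg

open LogNCD Groth.Agent.Divis.IdealComap Groth.Agent.Divis.EffCartier Groth.Agent.Divis.BlowChart2

variable {X S : Scheme.{u}} {f : X ⟶ S}

theorem ideal_prod {ι : Type*} (s : Finset ι) (D : ι → X.IdealSheafData) (U : X.affineOpens) :
    (∏ i ∈ s, D i).ideal U = ∏ i ∈ s, (D i).ideal U := by
  classical
  induction s using Finset.induction_on with
  | empty => simp
  | insert a s ha ih =>
    rw [Finset.prod_insert ha, Finset.prod_insert ha, Scheme.IdealSheafData.ideal_mul, Pi.mul_apply, ih]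

/-- The product of the components of a normal crossing divisor over a reduced base is locally a radical ideal. -/
theorem exists_isRadical [IsReduced S] {r : ℕ} {D : Fin r → X.IdealSheafData} (hD : IsNCD D f) (x : X)
    (O : X.Opens) (hx : x ∈ O) :
    ∃ U : X.affineOpens, x ∈ U.1 ∧ U.1 ≤ O ∧ ((∏ i, D i).ideal U).IsRadical := by
  classical
  by_cases hT : Nonempty (Through D x)
  · obtain ⟨W, hxW, n, v, e, he, het, hv, hv'⟩ := hD x hT
    obtain ⟨V, U, hfx, hxU, hUO, -, eU⟩ := exists_affine_le f x (O ⊓ W) ⟨hx, hxW⟩ ⊤ trivial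
    have hUW : U.1 ≤ W := hUO.trans inf_le_right
    refine ⟨U, hxU, hUO.trans inf_le_left, ?_⟩
    have h1 := Groth.Agent.Pi1.H411.Chart.etale_eval₂Hom_appLE f V.1 V.2 U.1 U.2 eU W hUW v het
    let _ := (MvPolynomial.eval₂Hom (f.appLE V.1 U.1 eU).hom
      (fun j => X.presheaf.map (homOfLE hUW).op (W.topIso.hom (v j)))).toAlgebra
    have h2 : Algebra.Etale (MvPolynomial (ULift.{u} (Fin n)) Γ(S, V.1)) Γ(X, U.1) := h1
    have hfin : Finite (Through D x) := inferInstanceAs (Finite {i : Fin r // x ∈ (D i).support})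
    have hT' : Fintype (Through D x) := Fintype.ofFinite _
    let s : Finset (ULift.{u} (Fin n)) := Finset.univ.image fun i : Through D x => ULift.up (e i)
    have h3 := isRadical_map_of_etale (A := Γ(X, U.1)) (isRadical_span_prod (R := Γ(S, V.1)) s)
    have h4 : ∀ i : Fin r, (D i).ideal U =
        Ideal.span {if h : x ∈ (D i).support then sectOn W hUW (v (ULift.up (e ⟨i, h⟩))) else 1} := by
      intro i
      by_cases h : x ∈ (D i).support
      · simp only [h, dif_pos]
        exact hv ⟨i, h⟩ U hUW
      · simp only [h, dif_neg, not_false_iff]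
        rw [hv' i h U hUW, Ideal.span_singleton_one]
    have h5 : (∏ i, D i).ideal U = Ideal.span {∏ i : Through D x, sectOn W hUW (v (ULift.up (e i)))} := by
      rw [ideal_prod, Finset.prod_congr rfl fun i _ => h4 i, Ideal.prod_span_singleton]
      congr 2
      rw [← Finset.prod_filter_of_ne (p := fun i => x ∈ (D i).support) (fun i _ hi => by
        by_contra h
        exact hi (dif_neg h))]
      rw [Finset.prod_subtype (p := fun i => x ∈ (D i).support) _ (fun i => by simp)]
      exact Finset.prod_congr rfl fun i _ => dif_pos i.2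
    rw [h5]
    convert h3 using 1
    rw [Ideal.map_span, Set.image_singleton, map_prod]
    congr 2
    rw [Finset.prod_image (fun a _ b _ hab => he (ULift.up_injective hab))]
    refine Finset.prod_congr rfl fun i _ => ?_
    exact (MvPolynomial.eval₂Hom_X' (f.appLE V.1 U.1 eU).hom
      (fun j => X.presheaf.map (homOfLE hUW).op (W.topIso.hom (v j))) (ULift.up (e i))).symm
  · -- `x` lies on no component
    let O' : X.Opens := ⟨(O : Set X) ∩ ⋂ i, ((D i).support : Set X)ᶜ,
      O.2.inter (isOpen_iInter_of_finite fun i => (D i).support.isClosed.isOpen_compl)⟩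
    have hx' : x ∈ O' := ⟨hx, Set.mem_iInter.2 fun i h => hT ⟨⟨i, h⟩⟩⟩
    obtain ⟨U, hU, hxU, hUO⟩ := exists_isAffineOpen_mem_and_subset hx'
    refine ⟨⟨U, hU⟩, hxU, fun y hy => (hUO hy).1, ?_⟩
    rw [ideal_prod, Finset.prod_eq_one]
    · rw [Ideal.one_eq_top]
      exact fun y _ => Submodule.mem_top
    · intro i _
      rw [Ideal.one_eq_top]
      exact K911.Ncd.ideal_eq_top_of_disjoint _ _ fun y hy hyi => Set.mem_iInter.1 (hUO hy).2 i hyi

end K31.NcdRad
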