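import Groth.Agent.Vanish.K31.Good
import Groth.Agent.Vanish.K88.ZarMain
import Groth.Agent.BlowUp.K483.ProjBirGlobal

/-!
# (DLEM) from (SAT)

`φ : X ⟶ Y` with a section `σ`, `X` normal, `E` effective Cartier on `X` not dominating `Y`, of nonpositive degree on the
contracted curves. If (SAT) holds for `φ` then `E = φ^*(σ^* E)`.
-/

set_option autoImplicit false
universe u
open CategoryTheory CategoryTheory.Limits AlgebraicGeometry TopologicalSpace

namespace K31.Dlem

open Groth.Agent Groth.Agent.Fga.PicMon Groth.Agent.Grpsch.PicGrp Groth.Agent.Fga.JacFactor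
open K909.Kleiman Groth.Agent.Divis.EffCartier Groth.Agent.Divis.IdealComap K292.NormDiv K88.Zar

theorem mem_support_pow {X : Scheme.{u}} {I : X.IdealSheafData} {n : ℕ} (hn : 0 < n) {x : X} :
    x ∈ (I ^ n).support ↔ x ∈ I.support := by
  induction n with
  | zero => omega
  | succ n ih =>
    rcases Nat.eq_zero_or_pos n with rfl | hn'
    · rw [zero_add, pow_one]
    · rw [pow_succ, Scheme.IdealSheafData.support_mul]
      constructor
      · rintro (h | h)
        · exact (ih hn').1 h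
        · exact h
      · exact Or.inr

/-- The core of (DLEM). -/
theorem core {X Y : Scheme.{u}} [IsIntegral X] [IsIntegral Y] [IsNoetherian X] [JacobsonSpace X]
    (hX : ∀ x : X, IsIntegrallyClosed (X.presheaf.stalk x)) (φ : X ⟶ Y) (hφ : IsClosedMap φ)
    (hη : φ (genericPoint X) = genericPoint Y) (σ : Y ⟶ X) (hσ : σ ≫ φ = 𝟙 Y) (E : X.IdealSheafData)
    (hE : BlowUp.IsEffCartierIdeal E) (hEY : genericPoint Y ∉ φ '' (E.support : Set X)) (Θ : Y.IdealSheafData)
    (hΘ : BlowUp.IsEffCartierIdeal Θ) (hEΘ : ∀ x ∈ E.support, φ x ∈ Θ.support) :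
    ∃ (q a : ℕ) (J : X.IdealSheafData), 0 < q ∧ BlowUp.IsEffCartierIdeal (E.comap σ) ∧
      BlowUp.IsEffCartierIdeal J ∧ (Θ ^ a * (E.comap σ) ^ q).comap φ = E ^ q * J ∧
      ((∀ z : Y, IsClosed ({z} : Set Y) → (∃ x ∈ J.support, φ x = z) → ∀ x : X, φ x = z → x ∈ J.support) →
        (E.comap σ).comap φ = E) := by
  classical
  have hφσ : ∀ y : Y, φ (σ y) = y := by
    intro y
    rw [← Scheme.Hom.comp_apply, hσ]
    rfl
  have hηE : genericPoint X ∉ E.support := fun h => hEY ⟨_, h, hη⟩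
  have hηΘ : genericPoint Y ∉ Θ.support := by
    intro h
    have h1 := hΘ
    exact K660.Ram.genericPoint_notMem_support h1 h
  have hF : BlowUp.IsEffCartierIdeal (E.comap σ) :=
    K660.Kol.isEff_comap_of_generic σ hE fun h => hEY ⟨_, h, hφσ _⟩
  have hηF : genericPoint Y ∉ (E.comap σ).support := by
    rw [Scheme.IdealSheafData.support_comap]
    exact fun h => hEY ⟨_, h, hφσ _⟩
  have hΘX : BlowUp.IsEffCartierIdeal (Θ.comap φ) := K660.Kol.isEff_comap_of_generic φ hΘ (by rwa [hη])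
  have hFX : BlowUp.IsEffCartierIdeal ((E.comap σ).comap φ) :=
    K660.Kol.isEff_comap_of_generic φ hF (by rwa [hη])
  have hΘm : ∀ x : X, x ∈ (Θ.comap φ).support ↔ φ x ∈ Θ.support := by
    intro x
    rw [Scheme.IdealSheafData.support_comap]
    rfl
  have hPfin : {x : X | Order.coheight x = 1 ∧ x ∈ ((Θ.comap φ).support : Set X)}.Finite :=
    finite_codim_one (Θ.comap φ).support.isClosed fun h => hηΘ (by rw [← hη]; exact (hΘm _).1 h)
  let P : Finset X := hPfin.toFinset
  have hP : ∀ x, x ∈ P ↔ Order.coheight x = 1 ∧ x ∈ (Θ.comap φ).support := fun x => hPfin.mem_toFinset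
  let m : X → ℕ := fun x => mult (Θ.comap φ) x
  have hm : ∀ x ∈ P, 0 < m x := fun x hx => (mult_pos_iff hX hΘX ((hP x).1 hx).1).2 ((hP x).1 hx).2
  let q : ℕ := ∏ x ∈ P, m x
  have hq : 0 < q := Finset.prod_pos hm
  have hmq : ∀ x ∈ P, q / m x * m x = q := fun x hx => Nat.div_mul_cancel (Finset.dvd_prod_of_mem m hx)
  let e : X → ℕ := fun x => mult E x
  let f : X → ℕ := fun x => mult ((E.comap σ).comap φ) x
  let a : ℕ := P.sup fun x => q / m x * e x - q / m x * f x
  have hB : (Θ ^ a * (E.comap σ) ^ q).comap φ = (Θ.comap φ) ^ a * ((E.comap σ).comap φ) ^ q := by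
    rw [comap_mul, comap_pow, comap_pow]
  have hBe : BlowUp.IsEffCartierIdeal ((Θ ^ a * (E.comap σ) ^ q).comap φ) := by
    rw [hB]; exact isEff_mul (isEff_pow hΘX a) (isEff_pow hFX q)
  have hmB : ∀ x : X, mult ((Θ ^ a * (E.comap σ) ^ q).comap φ) x = a * m x + q * f x := by
    intro x
    rw [hB, mult_mul (isEff_pow hΘX a) (isEff_pow hFX q), mult_pow hΘX, mult_pow hFX]
  have hEq : BlowUp.IsEffCartierIdeal (E ^ q) := isEff_pow hE q
  obtain ⟨J, hJ, hJe⟩ := exists_mul_of_mult hX hEq hBe fun x hx => by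
    rw [mult_pow hE, hmB x]
    by_cases hxP : x ∈ P
    · have h1 : q / m x * e x - q / m x * f x ≤ a := Finset.le_sup (f := fun x => q / m x * e x - q / m x * f x) hxP
      have h2 : q / m x * e x ≤ a + q / m x * f x := by omega
      calc q * mult E x = q / m x * e x * m x := by
            rw [mul_right_comm, hmq x hxP]
        _ ≤ (a + q / m x * f x) * m x := Nat.mul_le_mul_right _ h2
        _ = a * m x + q * f x := by rw [add_mul, mul_right_comm, hmq x hxP]
    · have hxE : x ∉ E.support := fun hxE => hxP ((hP x).2 ⟨hx, (hΘm x).2 (hEΘ x hxE)⟩)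
      rw [mult_of_notMem hxE, mul_zero]
      exact Nat.zero_le _
  refine ⟨q, a, J, hq, hF, hJ, hJe, fun hsat => ?_⟩
  -- pull back along the section
  have hJσ : J.comap σ = Θ ^ a := by
    have h1 : ((Θ ^ a * (E.comap σ) ^ q).comap φ).comap σ = (E ^ q * J).comap σ := by rw [hJe]
    rw [← Scheme.IdealSheafData.comap_comp, hσ, Scheme.IdealSheafData.comap_id, comap_mul, comap_pow,
      mul_comm] at h1
    exact (K971.Basic.mul_left_cancel_of_isEff (isEff_pow hF q) h1).symm
  have hJσm : ∀ y : Y, σ y ∈ J.support ↔ y ∈ (Θ ^ a).support := by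
    intro y
    rw [← hJσ, Scheme.IdealSheafData.support_comap]
    rfl
  have hcl : ∀ w : X, IsClosed ({w} : Set X) → IsClosed ({φ w} : Set Y) := by
    intro w hw
    have := hφ _ hw
    rwa [Set.image_singleton] at this
  have ha : a = 0 := by
    by_contra ha0
    have ha1 : 0 < a := Nat.pos_of_ne_zero ha0
    have hne : P.Nonempty := by
      by_contra hne
      rw [Finset.not_nonempty_iff_eq_empty] at hne
      apply ha0
      change P.sup _ = 0
      rw [hne]
      rfl
    obtain ⟨x₁, hx₁, hx₁a⟩ := Finset.exists_mem_eq_sup _ hne fun x => q / m x * e x - q / m x * f x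
    have hx₁a : a = q / m x₁ * e x₁ - q / m x₁ * f x₁ := hx₁a
    obtain ⟨hx₁c, hx₁Θ⟩ := (hP x₁).1 hx₁
    have hmJ : mult J x₁ = 0 := by
      have h1 := hmB x₁
      rw [hJe, mult_mul hEq hJ, mult_pow hE] at h1
      have h2 : a + q / m x₁ * f x₁ = q / m x₁ * e x₁ := by omega
      have h3 : a * m x₁ + q * f x₁ = q * e x₁ := by
        calc a * m x₁ + q * f x₁ = (a + q / m x₁ * f x₁) * m x₁ := by
              rw [add_mul, mul_right_comm, hmq x₁ hx₁]
          _ = q / m x₁ * e x₁ * m x₁ := by rw [h2]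
          _ = q * e x₁ := by rw [mul_right_comm, hmq x₁ hx₁]
      change q * e x₁ + mult J x₁ = a * m x₁ + q * f x₁ at h1
      omega
    have hx₁J : x₁ ∉ J.support := (mult_eq_zero_iff hX hJ hx₁c).1 hmJ
    apply hx₁J
    have hclos : closure {x₁} ⊆ (J.support : Set X) := by
      rw [← closure_inter_closedPoints (isClosed_closure (s := ({x₁} : Set X)))]
      refine closure_minimal ?_ J.support.isClosed
      rintro w ⟨hw, hwc⟩
      have hwΘ : w ∈ (Θ.comap φ).support :=
        (closure_minimal (Set.singleton_subset_iff.2 hx₁Θ) (Θ.comap φ).support.isClosed) hw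
      have h1 : σ (φ w) ∈ J.support := (hJσm _).2 ((mem_support_pow ha1).2 ((hΘm w).1 hwΘ))
      exact hsat (φ w) (hcl w hwc) ⟨_, h1, hφσ _⟩ w rfl
    exact hclos (subset_closure rfl)
  have hJt : J = ⊤ := by
    rw [← Scheme.IdealSheafData.support_eq_bot_iff]
    by_contra hne
    have hne' : (J.support : Set X).Nonempty := by
      rw [Set.nonempty_iff_ne_empty]
      intro h
      exact hne (SetLike.coe_injective (by simpa using h))
    obtain ⟨w, hw, hwc⟩ := nonempty_inter_closedPoints hne' J.support.isClosed.isLocallyClosed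
    have h1 := hsat (φ w) (hcl w hwc) ⟨w, hw, rfl⟩ (σ (φ w)) (hφσ _)
    rw [hJσm, ha, pow_zero, Scheme.IdealSheafData.one_eq_top, Scheme.IdealSheafData.support_top] at h1
    exact h1
  refine eq_of_mult hX hFX hE fun x hx => ?_
  have h1 := hmB x
  rw [hJe, hJt, mult_mul hEq isEff_top, mult_pow hE, ha, mult_of_notMem (I := (⊤ : X.IdealSheafData)) (by
    rw [Scheme.IdealSheafData.support_top]; exact Set.notMem_empty x)] at h1
  have h2 : q * mult E x = q * f x := by omega
  exact (Nat.eq_of_mul_eq_mul_left hq h2).symm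

/-- (SAT) for a fibration with connected closed fibres. -/
def SatC (k : Type u) [Field k] : Prop :=
  ∀ {X Y : Scheme.{u}} [X.Over (Spec (CommRingCat.of k))] [Y.Over (Spec (CommRingCat.of k))] [IsIntegral X]
    [IsIntegral Y] [IsProper (X ↘ Spec (CommRingCat.of k))] [IsProper (Y ↘ Spec (CommRingCat.of k))] (ψ : X ⟶ Y)
    (_ : ψ ≫ (Y ↘ Spec (CommRingCat.of k)) = X ↘ Spec (CommRingCat.of k))
    (_ : ∀ y : Y, IsClosed {y} → _root_.IsPreconnected (ψ ⁻¹' {y})), K88.Zar.Sat k ψ

/-- **(DLEM)** from (SAT). -/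
theorem dlem {k : Type u} [Field k] (hS : SatC.{u} k) : K31.Good.Dlem.{u} k := by
  intro X Y _ _ _ _ _ _ hn HY hHY φ hφ σ hσ hconn E hE hEY hdeg
  have hXn : IsLocallyNoetherian X := LocallyOfFiniteType.isLocallyNoetherian (X ↘ Spec (CommRingCat.of k))
  have hXc : CompactSpace X := QuasiCompact.compactSpace_of_compactSpace (X ↘ Spec (CommRingCat.of k))
  have hXN : IsNoetherian X := {}
  have hXj : JacobsonSpace X := LocallyOfFiniteType.jacobsonSpace (X ↘ Spec (CommRingCat.of k))
  have hφp : IsProper φ := K31.Good.isProper_of_over φ hφ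
  have hφσ : ∀ y : Y, φ (σ y) = y := by
    intro y
    rw [← Scheme.Hom.comp_apply, hσ]
    rfl
  have hsurj : Function.Surjective φ := fun y => ⟨σ y, hφσ y⟩
  have hη : φ (genericPoint X) = genericPoint Y := by
    refine ((genericPoint_spec Y).eq ?_).symm
    have h1 := (genericPoint_spec X).image φ.continuous
    rwa [Set.image_univ, hsurj.range_eq, closure_univ] at h1
  have hEY' : genericPoint Y ∉ φ '' (E.support : Set X) := by
    intro h
    apply hEY
    rw [← Set.univ_subset_iff, ← (genericPoint_spec Y).def]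
    exact closure_minimal (Set.singleton_subset_iff.2 h) (φ.isClosedMap _ E.support.isClosed)
  let W : Y.Opens := ⟨(φ '' (E.support : Set X))ᶜ, (φ.isClosedMap _ E.support.isClosed).isOpen_compl⟩
  obtain ⟨Θ, hΘ, hΘW⟩ := K483.ProjBirGlobal.exists_divisor_le hHY (W := W) hEY'
  have hEΘ : ∀ x ∈ E.support, φ x ∈ Θ.support := by
    intro x hx
    by_contra h
    exact hΘW _ h ⟨x, hx, rfl⟩
  obtain ⟨q, a, J, hq, hF, hJ, hJe, H⟩ := core hn φ φ.isClosedMap hη σ hσ E hE hEY' Θ hΘ hEΘ
  refine ⟨hF, H (hS φ hφ hconn J hJ fun C i _ hC hdim hc => ?_)⟩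
  rw [curveDeg_eq_dOn k X i hdim (Dix.IdealModCartier.isInvertible_idealMod hJ)]
  change 0 ≤ dOn k X i (dcl J hJ)
  have hB : BlowUp.IsEffCartierIdeal (Θ ^ a * (E.comap σ) ^ q) := isEff_mul (isEff_pow hΘ a) (isEff_pow hF q)
  have hEq : BlowUp.IsEffCartierIdeal (E ^ q) := isEff_pow hE q
  have hBX : BlowUp.IsEffCartierIdeal ((Θ ^ a * (E.comap σ) ^ q).comap φ) := by rw [hJe]; exact isEff_mul hEq hJ
  have h1 : pull φ (dcl _ hB) = dcl E hE ^ q * dcl J hJ := by
    rw [K660.KolUp.pull_dcl φ hB hBX, ← K660.KolUp.dcl_pow hE q hEq, ← dcl_mul hEq hJ]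
    exact dcl_congr hJe hBX
  have h2 := dOn_pull_eq_zero φ hφ i hC hdim hc (dcl _ hB)
  rw [h1, dOn_mul k X i hdim, dOn_pow k X i hdim] at h2
  have h3 := hdeg C i hC hdim hc
  rw [curveDeg_eq_dOn k X i hdim (Dix.IdealModCartier.isInvertible_idealMod hE)] at h3
  change dOn k X i (dcl E hE) ≤ 0 at h3
  nlinarith [h2, h3, Int.natCast_nonneg q]

end K31.Dlem
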