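import Groth.Agent.Vanish.K31.Good
import Groth.Agent.Vanish.K480.Iit
import Groth.Agent.S1618

/-!
# The input `Iit` of `K31.Good`
-/

set_option autoImplicit false
universe u
open CategoryTheory CategoryTheory.Limits AlgebraicGeometry Opposite TopologicalSpace

namespace K31.GoodIit

open Groth.Agent Groth.Agent.Grpsch.PicGrp Groth.Agent.Fga.JacFactor

/-- A proper morphism which is an isomorphism over a nonempty open of an irreducible scheme is surjective. -/
theorem surjective_of_isIso {X' X : Scheme.{u}} (π : X' ⟶ X) [IsProper π] [IrreducibleSpace X] (V : X.Opens)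
    (hV : (V : Set X).Nonempty) [IsIso (π ∣_ V)] : Surjective π := by
  have h1 : (V : Set X) ⊆ Set.range π := by
    intro x hx
    obtain ⟨y, hy⟩ := (π ∣_ V).surjective ⟨x, hx⟩
    refine ⟨(π ⁻¹ᵁ V).ι y, ?_⟩
    have h2 := congrArg (fun g : (π ⁻¹ᵁ V : X'.Opens).toScheme ⟶ X => g y) (morphismRestrict_ι π V)
    rw [← Scheme.Hom.comp_apply, ← h2, Scheme.Hom.comp_apply, hy]
    rfl
  have h2 : Dense (V : Set X) := V.isOpen.dense hV
  refine ⟨fun x => ?_⟩
  have h3 : Set.range π = Set.univ := by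
    rw [← π.isClosedMap.isClosed_range.closure_eq]
    exact (h2.mono h1).closure_eq
  rw [← Set.mem_range, h3]
  trivial

/-- A birational modification has the same dimension. -/
theorem dim_eq_of_isIso {k : Type u} [Field k] {X' X : Scheme.{u}} (x : X ⟶ Spec (CommRingCat.of k)) (π : X' ⟶ X)
    [LocallyOfFiniteType x] [LocallyOfFiniteType π] [IrreducibleSpace X] [IrreducibleSpace X'] [Surjective π]
    (V : X.Opens) (hV : (V : Set X).Nonempty) [IsIso (π ∣_ V)] :
    topologicalKrullDim X' = topologicalKrullDim X := by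
  let _ : X.Over (Spec (CommRingCat.of k)) := ⟨x⟩
  have h1 : LocallyOfFiniteType (X ↘ Spec (CommRingCat.of k)) := ‹LocallyOfFiniteType x›
  let _ : X'.Over (Spec (CommRingCat.of k)) := ⟨π ≫ x⟩
  have h2 : LocallyOfFiniteType (X' ↘ Spec (CommRingCat.of k)) :=
    (inferInstance : LocallyOfFiniteType (π ≫ x))
  have hV' : ((π ⁻¹ᵁ V : X'.Opens) : Set X').Nonempty := by
    obtain ⟨v, hv⟩ := hV
    obtain ⟨y, rfl⟩ := π.surjective v
    exact ⟨y, hv⟩
  rw [← S1618.result k X V hV, ← S1618.result k X' (π ⁻¹ᵁ V) hV']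
  exact ((π ∣_ V).homeomorph.isHomeomorph).topologicalKrullDim_eq

/-- Iitaka fibrations (helper480). -/
theorem iit (k : Type u) [Field k] : K31.Good.Iit.{u} k := by
  intro X _ _ _ H hH L hL m hg
  obtain ⟨e, he, X', π, hX', hπ, ⟨V, hV, hiso⟩, H', hH', φ, hφ, hφs, E', hE', hO, heq⟩ :=
    K480.Iit.iit k X hH hL m hg
  have hs := surjective_of_isIso π V hV
  exact ⟨e, X', π, H', φ, E', hE', hO, he, hX', hπ, hs,
    dim_eq_of_isIso (X ↘ Spec (CommRingCat.of k)) π V hV, hH', hφs, hφ, heq⟩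

end K31.GoodIit
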