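import Groth.Agent.Vanish.K31.Pos
import Groth.Agent.PosLin.K931.Eff
import Groth.Agent.PosLin.K931.Basic
import Groth.Agent.CurvesC.DegIso

/-!
# The twisted theorems from the untwisted ones

`semi` (S17115 from S16893), `nefBig` (S17116 from S16897), `good` (S17123 from S19525 and S16903), `kvb` (Kawamata–Viehweg for
semi-ample and big `L^N(-D)`, from S16892).
-/

set_option autoImplicit false
universe u

open CategoryTheory CategoryTheory.Limits AlgebraicGeometry Opposite TopologicalSpace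

namespace K31.Rows

open Groth.Agent Groth.Agent.Grpsch.PicGrp Groth.Agent.Fga.JacFactor K909.Kleiman K909.InterML K31.Setup K31.Cover K31.HNat

/-- The statement of S16893. -/
def P16893 (k : Type u) [Field k] : Prop :=
  ∀ (X : Scheme.{u}) [X.Over (Spec (CommRingCat.of k))] [IsProper (X ↘ Spec (CommRingCat.of k))]
    [Smooth (X ↘ Spec (CommRingCat.of k))] [IrreducibleSpace X] (n : ℕ) (_ : topologicalKrullDim X = n)
    (H : X.Modules) (_ : CohB1.IsAmple H)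
    (L Linv : X.Modules) (_ : PicF.IsInvertible L) (_ : ClSub.IsInverseOf Linv L)
    (_ : ∃ μ : ℕ, 0 < μ ∧ Curv2.IsGloballyGenerated (CohB1.tensorPow L μ))
    (I : X.IdealSheafData) (_ : PicF.IsInvertible (ClSub.idealMod I))
    (_ : ∃ ν : ℕ, 0 < ν ∧ Nontrivial (Coh.HH X (CohB1.tensorMod (CohB1.tensorPow L ν) (ClSub.idealMod I)) 0))
    (b : ℕ),
    Function.Surjective (Sheaf.H.map ((SheafOfModules.toSheaf X.ringCatSheaf).map
      (KoszTw.tensorMap (𝟙 Linv) (ClSub.idealModι I) ≫ (SecTwist.unitorR Linv).hom)) b)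

/-- The statement of S16897. -/
def P16897 (k : Type u) [Field k] : Prop :=
  ∀ (X : Scheme.{u}) [X.Over (Spec (CommRingCat.of k))] [IsProper (X ↘ Spec (CommRingCat.of k))]
    [Smooth (X ↘ Spec (CommRingCat.of k))] [IrreducibleSpace X] (n : ℕ) (_ : topologicalKrullDim X = n)
    (H : X.Modules) (_ : CohB1.IsAmple H) (L Linv : X.Modules) (_ : PicF.IsInvertible L) (_ : ClSub.IsInverseOf Linv L)
    (_ : (∀ (Y : Scheme.{u}) (i : Y ⟶ X) [IsClosedImmersion i], IsIntegral Y → topologicalKrullDim Y = 1 →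
      0 ≤ Pic13.curveDeg k (i ≫ (X ↘ Spec (CommRingCat.of k))) ((Scheme.Modules.pullback i).obj L)))
    (_ : 0 < FGA.intNum k X n (fun _ : Fin n => Linv) (Coh.structureModule X))
    (b : ℕ) (_ : b < n),
    Subsingleton (Coh.HH X Linv b)

/-- The statement of S16892. -/
def P16892 (k : Type u) [Field k] : Prop :=
  ∀ (X : Scheme.{u}) [X.Over (Spec (CommRingCat.of k))] [IsProper (X ↘ Spec (CommRingCat.of k))]
    [Smooth (X ↘ Spec (CommRingCat.of k))] [IrreducibleSpace X] (n : ℕ) (_ : topologicalKrullDim X = n)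
    (L Linv : X.Modules) (_ : PicF.IsInvertible L) (_ : ClSub.IsInverseOf Linv L)
    (_ : ∃ μ : ℕ, 0 < μ ∧ Curv2.IsGloballyGenerated (CohB1.tensorPow L μ))
    (_ : ∃ (ν : ℕ) (A : X.Modules) (φ : A ⟶ CohB1.tensorPow L ν), 0 < ν ∧ CohB1.IsAmple A ∧ Mono φ)
    (b : ℕ) (_ : b < n),
    Subsingleton (Coh.HH X Linv b)

/-- The good condition: nef with numerical dimension equal to Iitaka dimension. -/
def Good (k : Type u) [Field k] (X : Scheme.{u}) [X.Over (Spec (CommRingCat.of k))] (n : ℕ) (L Linv : X.Modules) : Prop :=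
  ∃ m : ℕ, ((∀ (V : Scheme.{u}) (i : V ⟶ X) [IsClosedImmersion i], IsIntegral V → topologicalKrullDim V = ((m + 1) : ℕ) →
          FGA.intNum k X n (fun _ : Fin (m + 1) => Linv) ((Scheme.Modules.pushforward i).obj (Coh.structureModule V)) = 0) ∧ ¬ (∀ (V : Scheme.{u}) (i : V ⟶ X) [IsClosedImmersion i], IsIntegral V → topologicalKrullDim V = ((m) : ℕ) →
          FGA.intNum k X n (fun _ : Fin (m) => Linv) ((Scheme.Modules.pushforward i).obj (Coh.structureModule V)) = 0)) ∧ ((∃ ν a : ℕ, 0 < ν ∧ 0 < a ∧ ∀ μ : ℕ, 1 ≤ μ →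
          μ ^ (m) ≤ a * Module.finrank k (Coh.HH X (CohB1.tensorPow L (ν * μ)) 0)) ∧ ¬ (∃ ν a : ℕ, 0 < ν ∧ 0 < a ∧ ∀ μ : ℕ, 1 ≤ μ →
          μ ^ (m + 1) ≤ a * Module.finrank k (Coh.HH X (CohB1.tensorPow L (ν * μ)) 0)))

/-- The statement of S19525. -/
def P19525 (k : Type u) [Field k] : Prop :=
  ∀ (X : Scheme.{u}) [X.Over (Spec (CommRingCat.of k))] [IsProper (X ↘ Spec (CommRingCat.of k))]
    [Smooth (X ↘ Spec (CommRingCat.of k))] [IrreducibleSpace X] (n : ℕ) (_ : topologicalKrullDim X = n)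
    (H : X.Modules) (_ : CohB1.IsAmple H)
    (L Linv : X.Modules) (_ : PicF.IsInvertible L) (_ : ClSub.IsInverseOf Linv L)
    (_ : (∀ (Y : Scheme.{u}) (i : Y ⟶ X) [IsClosedImmersion i], IsIntegral Y → topologicalKrullDim Y = 1 →
      0 ≤ Pic13.curveDeg k (i ≫ (X ↘ Spec (CommRingCat.of k))) ((Scheme.Modules.pullback i).obj L)))
    (_ : Good k X n L Linv)
    (I : X.IdealSheafData) (_ : PicF.IsInvertible (ClSub.idealMod I))
    (_ : ∃ ν : ℕ, 0 < ν ∧ Nontrivial (Coh.HH X (CohB1.tensorMod (CohB1.tensorPow L ν) (ClSub.idealMod I)) 0))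
    (b : ℕ),
    Function.Surjective (Sheaf.H.map ((SheafOfModules.toSheaf X.ringCatSheaf).map
      (KoszTw.tensorMap (𝟙 Linv) (ClSub.idealModι I) ≫ (SecTwist.unitorR Linv).hom)) b)

/-- The statement of S16903. -/
def P16903 (k : Type u) [Field k] : Prop :=
  ∀ (X : Scheme.{u}) [X.Over (Spec (CommRingCat.of k))] [IsProper (X ↘ Spec (CommRingCat.of k))]
    [Smooth (X ↘ Spec (CommRingCat.of k))] [IrreducibleSpace X] (n : ℕ) (_ : topologicalKrullDim X = n)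
    (H : X.Modules) (_ : CohB1.IsAmple H) (L Linv : X.Modules) (_ : PicF.IsInvertible L) (_ : ClSub.IsInverseOf Linv L)
    (_ : (∀ (Y : Scheme.{u}) (i : Y ⟶ X) [IsClosedImmersion i], IsIntegral Y → topologicalKrullDim Y = 1 →
      0 ≤ Pic13.curveDeg k (i ≫ (X ↘ Spec (CommRingCat.of k))) ((Scheme.Modules.pullback i).obj L)))
    (m : ℕ) (_ : (∀ (V : Scheme.{u}) (i : V ⟶ X) [IsClosedImmersion i], IsIntegral V → topologicalKrullDim V = (m : ℕ) →
      FGA.intNum k X n (fun _ : Fin m => Linv) ((Scheme.Modules.pushforward i).obj (Coh.structureModule V)) = 0)),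
    ¬ (∃ ν a : ℕ, 0 < ν ∧ 0 < a ∧ ∀ μ : ℕ, 1 ≤ μ →
        μ ^ m ≤ a * Module.finrank k (Coh.HH X (CohB1.tensorPow L (ν * μ)) 0))

section transfer

variable {X Z : Scheme.{u}} (τ : Z ⟶ X) {L₁ : Z.Modules} (hL₁ : PicF.IsInvertible L₁) {M : X.Modules}
  (hM : PicF.IsInvertible M) {N : ℕ} (h : mk L₁ hL₁ ^ N = pull τ (mk M hM))

include h

/-- `L₁^(N m) ≅ τ^* M^m`. -/
theorem nonempty_pow_iso (m : ℕ) :
    Nonempty (CohB1.tensorPow L₁ (N * m) ≅ (Scheme.Modules.pullback τ).obj (CohB1.tensorPow M m)) := by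
  have hMm := Fdesc.LocGen.isInvertible_tensorPow hM m
  rw [← mk_eq_iff (Fdesc.LocGen.isInvertible_tensorPow hL₁ (N * m)) (Fdesc.LocGen.isInvertible_pullback τ hMm),
    mk_tensorPow hL₁, pow_mul, h, ← map_pow, ← mk_tensorPow hM]
  rfl

/-- `L₁^(N m) ⊗ I O_Z ≅ τ^* (M^m ⊗ I)`. -/
theorem nonempty_pow_twist_iso (m : ℕ) {I : X.IdealSheafData} (hI : BlowUp.IsEffCartierIdeal I)
    (hI' : BlowUp.IsEffCartierIdeal (I.comap τ)) :
    Nonempty (CohB1.tensorMod (CohB1.tensorPow L₁ (N * m)) (ClSub.idealMod (I.comap τ)) ≅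
      (Scheme.Modules.pullback τ).obj (CohB1.tensorMod (CohB1.tensorPow M m) (ClSub.idealMod I))) := by
  have hMm := Fdesc.LocGen.isInvertible_tensorPow hM m
  have hIi := Groth.Agent.Dix.IdealModCartier.isInvertible_idealMod hI
  have hIi' := Groth.Agent.Dix.IdealModCartier.isInvertible_idealMod hI'
  have h1 := Fdesc.LocGen.isInvertible_tensorMod hMm hIi
  have h2 := Fdesc.LocGen.isInvertible_tensorMod (Fdesc.LocGen.isInvertible_tensorPow hL₁ (N * m)) hIi'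
  rw [← mk_eq_iff h2 (Fdesc.LocGen.isInvertible_pullback τ h1)]
  have e1 : mk _ h2 = mk _ (Fdesc.LocGen.isInvertible_tensorPow hL₁ (N * m)) * dcl (I.comap τ) hI' := rfl
  have e2 : mk _ (Fdesc.LocGen.isInvertible_pullback τ h1) = pull τ (mk _ hMm * dcl I hI) := rfl
  rw [e1, e2, mk_tensorPow hL₁, pow_mul, h, map_mul, pull_dcl τ hI hI', mk_tensorPow hM, map_pow]

/-- Semi-ampleness. -/
theorem semiample (hN : 0 < N) (hsa : ∃ μ : ℕ, 0 < μ ∧ Curv2.IsGloballyGenerated (CohB1.tensorPow M μ)) :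
    ∃ μ : ℕ, 0 < μ ∧ Curv2.IsGloballyGenerated (CohB1.tensorPow L₁ μ) := by
  obtain ⟨μ, hμ, hgg⟩ := hsa
  obtain ⟨e⟩ := nonempty_pow_iso τ hL₁ hM h μ
  exact ⟨N * μ, Nat.mul_pos hN hμ, Ega2.GlobGenCrit.isGloballyGenerated_of_iso e.symm
    (VarietyB.GGStalk.isGloballyGenerated_pullback τ _ hgg)⟩

end transfer

/-- **S17115 from S16893.** -/
theorem semi {k : Type u} [Field k] [IsAlgClosed k] [CharZero k] (hKaw : Kaw.{u} k) (hP : P16893 k)
    (X : Scheme.{u}) [X.Over (Spec (CommRingCat.of k))] [IsProper (X ↘ Spec (CommRingCat.of k))]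
    [Smooth (X ↘ Spec (CommRingCat.of k))] [IrreducibleSpace X] (n : ℕ) (hn : topologicalKrullDim X = n)
    (H : X.Modules) (hH : CohB1.IsAmple H)
    (L Linv : X.Modules) (hL : PicF.IsInvertible L) (hLinv : ClSub.IsInverseOf Linv L)
    (N : ℕ) (hN : 1 ≤ N) {r : ℕ} (D : Fin r → X.IdealSheafData) (hD : LogNCD.IsNCD D (X ↘ Spec (CommRingCat.of k)))
    (α : Fin r → ℕ) (hα : ∀ j, α j < N)
    (hsa : ∃ μ : ℕ, 0 < μ ∧ Curv2.IsGloballyGenerated (CohB1.tensorPow (CohB1.tensorMod (CohB1.tensorPow L N) (ClSub.idealMod (∏ j, D j ^ α j))) μ))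
    (I : X.IdealSheafData) (hI : PicF.IsInvertible (ClSub.idealMod I))
    (hsec : ∃ ν : ℕ, 0 < ν ∧ Nontrivial (Coh.HH X (CohB1.tensorMod (CohB1.tensorPow (CohB1.tensorMod (CohB1.tensorPow L N) (ClSub.idealMod (∏ j, D j ^ α j))) ν) (ClSub.idealMod I)) 0))
    (b : ℕ) :
    Function.Surjective (Sheaf.H.map ((SheafOfModules.toSheaf X.ringCatSheaf).map (LogNCD.inclTwist Linv I)) b) := by
  obtain ⟨Z, _, τ, hτ, _, _, _, _, _, hnZ, HZ, hHZ, L₁, L₁inv, hL₁, hinv, hM, hcl, hsurj, -, -, hsub⟩ :=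
    exists_setup hKaw X n hn H hH L Linv hL hLinv N hN D hD α hα
  have hIe := Groth.Agent.Dix.IdealModCartier.isEffCartierIdeal_of_isInvertible hI
  obtain ⟨hI', hs⟩ := hsurj I hIe
  refine hs b ?_
  refine hP Z n hnZ HZ hHZ L₁ L₁inv hL₁ hinv (semiample τ hL₁ hM hcl hN hsa) (I.comap τ)
    (Groth.Agent.Dix.IdealModCartier.isInvertible_idealMod hI') ?_ b
  obtain ⟨ν, hν, hnt⟩ := hsec
  refine ⟨N * ν, Nat.mul_pos hN hν, ?_⟩
  obtain ⟨e⟩ := nonempty_pow_twist_iso τ hL₁ hM hcl ν hIe hI'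
  rw [← not_subsingleton_iff_nontrivial] at hnt ⊢
  intro hsg
  exact hnt (hsub _ (Fdesc.LocGen.isInvertible_tensorMod (Fdesc.LocGen.isInvertible_tensorPow hM ν) hI) 0
    (HNat.subsingleton_of_iso e.symm hsg))

/-- **S17116 from S16897.** -/
theorem nefBig {k : Type u} [Field k] [IsAlgClosed k] [CharZero k] (hKaw : Kaw.{u} k) (hP : P16897 k)
    (X : Scheme.{u}) [X.Over (Spec (CommRingCat.of k))] [IsProper (X ↘ Spec (CommRingCat.of k))]
    [Smooth (X ↘ Spec (CommRingCat.of k))] [IrreducibleSpace X] (n : ℕ) (hn : topologicalKrullDim X = n)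
    (H : X.Modules) (hH : CohB1.IsAmple H)
    (L Linv : X.Modules) (hL : PicF.IsInvertible L) (hLinv : ClSub.IsInverseOf Linv L)
    (N : ℕ) (hN : 1 ≤ N) {r : ℕ} (D : Fin r → X.IdealSheafData) (hD : LogNCD.IsNCD D (X ↘ Spec (CommRingCat.of k)))
    (α : Fin r → ℕ) (hα : ∀ j, α j < N)
    (Minv : X.Modules) (hMinv : ClSub.IsInverseOf Minv (CohB1.tensorMod (CohB1.tensorPow L N) (ClSub.idealMod (∏ j, D j ^ α j))))
    (hnef : (∀ (Y : Scheme.{u}) (i : Y ⟶ X) [IsClosedImmersion i], IsIntegral Y → topologicalKrullDim Y = 1 →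
      0 ≤ Pic13.curveDeg k (i ≫ (X ↘ Spec (CommRingCat.of k))) ((Scheme.Modules.pullback i).obj (CohB1.tensorMod (CohB1.tensorPow L N) (ClSub.idealMod (∏ j, D j ^ α j))))))
    (hbig : 0 < FGA.intNum k X n (fun _ : Fin n => Minv) (Coh.structureModule X))
    (b : ℕ) (hb : b < n) :
    Subsingleton (Coh.HH X Linv b) := by
  have hX : IsIntegral X := isIntegral_of_smooth k X (X ↘ Spec (CommRingCat.of k))
  obtain ⟨Z, _, τ, hτ, _, _, _, _, _, hnZ, HZ, hHZ, L₁, L₁inv, hL₁, hinv, hM, hcl, -, hvan, -, -⟩ :=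
    exists_setup hKaw X n hn H hH L Linv hL hLinv N hN D hD α hα
  refine hvan b (hP Z n hnZ HZ hHZ L₁ L₁inv hL₁ hinv ?_ ?_ b hb)
  · exact Pos.nef_transfer k τ hτ hL₁ hM hN hcl hn.le hHZ hnef
  · exact Pos.intNum_pos k τ hτ hL₁ hinv hM hN hcl hn hnZ hHZ hMinv hbig

/-- **Kawamata–Viehweg vanishing for `L^N(-D)` semi-ample and big, from S16892.** -/
theorem kvb {k : Type u} [Field k] [IsAlgClosed k] [CharZero k] (hKaw : Kaw.{u} k) (hP : P16892 k)
    (X : Scheme.{u}) [X.Over (Spec (CommRingCat.of k))] [IsProper (X ↘ Spec (CommRingCat.of k))]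
    [Smooth (X ↘ Spec (CommRingCat.of k))] [IrreducibleSpace X] (n : ℕ) (hn : topologicalKrullDim X = n)
    (L Linv : X.Modules) (hL : PicF.IsInvertible L) (hLinv : ClSub.IsInverseOf Linv L)
    (N : ℕ) (hN : 1 ≤ N) {r : ℕ} (D : Fin r → X.IdealSheafData) (hD : LogNCD.IsNCD D (X ↘ Spec (CommRingCat.of k)))
    (α : Fin r → ℕ) (hα : ∀ j, α j < N)
    (hsa : ∃ μ : ℕ, 0 < μ ∧ Curv2.IsGloballyGenerated (CohB1.tensorPow (CohB1.tensorMod (CohB1.tensorPow L N) (ClSub.idealMod (∏ j, D j ^ α j))) μ))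
    (hbig : ∃ (ν : ℕ) (A : X.Modules) (φ : A ⟶ CohB1.tensorPow (CohB1.tensorMod (CohB1.tensorPow L N) (ClSub.idealMod (∏ j, D j ^ α j))) ν),
      0 < ν ∧ CohB1.IsAmple A ∧ Mono φ)
    (b : ℕ) (hb : b < n) :
    Subsingleton (Coh.HH X Linv b) := by
  have hX : IsIntegral X := isIntegral_of_smooth k X (X ↘ Spec (CommRingCat.of k))
  obtain ⟨ν, A, φ, hν, hA, hφ⟩ := hbig
  obtain ⟨Z, _, τ, hτ, _, _, _, _, _, hnZ, HZ, hHZ, L₁, L₁inv, hL₁, hinv, hM, hcl, -, hvan, -, hsub⟩ :=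
    exists_setup hKaw X n hn A hA L Linv hL hLinv N hN D hD α hα
  refine hvan b (hP Z n hnZ L₁ L₁inv hL₁ hinv (semiample τ hL₁ hM hcl hN hsa) ?_ b hb)
  have hMν := Fdesc.LocGen.isInvertible_tensorPow hM ν
  have hAτ : CohB1.IsAmple ((Scheme.Modules.pullback τ).obj A) := CohqB.AmpCocycle.isAmple_pullback τ hA
  obtain ⟨E, hE, hEq, s, hs⟩ := (K931.Eff.exists_mono_iff hA.1 hMν).1 ⟨φ, hφ⟩
  have h1 : Nontrivial (Coh.HH X E 0) := (K931.Basic.nontrivial_H0_iff E).2 ⟨s, hs⟩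
  have h2 : Nontrivial (Coh.HH Z ((Scheme.Modules.pullback τ).obj E) 0) := by
    rw [← not_subsingleton_iff_nontrivial] at h1 ⊢
    exact fun h => h1 (hsub E hE 0 h)
  obtain ⟨t, ht⟩ := (K931.Basic.nontrivial_H0_iff _).1 h2
  have hL₁ν := Fdesc.LocGen.isInvertible_tensorPow hL₁ (N * ν)
  have h3 : K931.Eff.Eff (mk _ hL₁ν / mk _ hAτ.1) := by
    refine ⟨_, Fdesc.LocGen.isInvertible_pullback τ hE, ?_, t, ht⟩
    have e1 : mk _ (Fdesc.LocGen.isInvertible_pullback τ hE) = pull τ (mk E hE) := rfl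
    rw [e1, ← hEq, map_div, mk_tensorPow hL₁, pow_mul, hcl, mk_tensorPow hM, map_pow]
    rfl
  obtain ⟨ψ, hψ⟩ := (K931.Eff.exists_mono_iff hAτ.1 hL₁ν).2 h3
  exact ⟨N * ν, _, ψ, Nat.mul_pos hN hν, hAτ, hψ⟩

/-- **S17123 from S19525 and S16903.** -/
theorem good {k : Type u} [Field k] [IsAlgClosed k] [CharZero k] (hKaw : Kaw.{u} k) (hP : P19525 k) (hQ : P16903 k)
    (X : Scheme.{u}) [X.Over (Spec (CommRingCat.of k))] [IsProper (X ↘ Spec (CommRingCat.of k))]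
    [Smooth (X ↘ Spec (CommRingCat.of k))] [IrreducibleSpace X] (n : ℕ) (hn : topologicalKrullDim X = n)
    (H : X.Modules) (hH : CohB1.IsAmple H)
    (L Linv : X.Modules) (hL : PicF.IsInvertible L) (hLinv : ClSub.IsInverseOf Linv L)
    (N : ℕ) (hN : 1 ≤ N) {r : ℕ} (D : Fin r → X.IdealSheafData) (hD : LogNCD.IsNCD D (X ↘ Spec (CommRingCat.of k)))
    (α : Fin r → ℕ) (hα : ∀ j, α j < N)
    (Minv : X.Modules) (hMinv : ClSub.IsInverseOf Minv (CohB1.tensorMod (CohB1.tensorPow L N) (ClSub.idealMod (∏ j, D j ^ α j))))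
    (hnef : (∀ (Y : Scheme.{u}) (i : Y ⟶ X) [IsClosedImmersion i], IsIntegral Y → topologicalKrullDim Y = 1 →
      0 ≤ Pic13.curveDeg k (i ≫ (X ↘ Spec (CommRingCat.of k))) ((Scheme.Modules.pullback i).obj (CohB1.tensorMod (CohB1.tensorPow L N) (ClSub.idealMod (∏ j, D j ^ α j))))))
    (hgood : Good k X n (CohB1.tensorMod (CohB1.tensorPow L N) (ClSub.idealMod (∏ j, D j ^ α j))) Minv)
    (I : X.IdealSheafData) (hI : PicF.IsInvertible (ClSub.idealMod I))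
    (hsec : ∃ ν : ℕ, 0 < ν ∧ Nontrivial (Coh.HH X (CohB1.tensorMod (CohB1.tensorPow (CohB1.tensorMod (CohB1.tensorPow L N) (ClSub.idealMod (∏ j, D j ^ α j))) ν) (ClSub.idealMod I)) 0))
    (b : ℕ) :
    Function.Surjective (Sheaf.H.map ((SheafOfModules.toSheaf X.ringCatSheaf).map (LogNCD.inclTwist Linv I)) b) := by
  obtain ⟨Z, _, τ, hτ, _, _, _, _, _, hnZ, HZ, hHZ, L₁, L₁inv, hL₁, hinv, hM, hcl, hsurj, -, hfr, hsub⟩ :=
    exists_setup hKaw X n hn H hH L Linv hL hLinv N hN D hD α hα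
  have hIe := Groth.Agent.Dix.IdealModCartier.isEffCartierIdeal_of_isInvertible hI
  obtain ⟨hI', hs⟩ := hsurj I hIe
  refine hs b ?_
  have hnefZ := Pos.nef_transfer k τ hτ hL₁ hM hN hcl hn.le hHZ hnef
  have hN0 : (0 : ℤ) < N := by exact_mod_cast hN
  have hgoodZ : Good k Z n L₁ L₁inv := by
    obtain ⟨m, ⟨hz, hnz⟩, ⟨ν, a, hν, ha, hgr⟩, -⟩ := hgood
    have hzZ : ∀ (W : Scheme.{u}) (i : W ⟶ Z) [IsClosedImmersion i], IsIntegral W →
        topologicalKrullDim W = ((m + 1) : ℕ) →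
        FGA.intNum k Z n (fun _ : Fin (m + 1) => L₁inv) ((Scheme.Modules.pushforward i).obj (Coh.structureModule W)) = 0 := by
      intro W i _ hW hdim
      obtain ⟨V, j, hj, hV, hgen, hVW⟩ := FinInt.exists_image τ i
      obtain ⟨δ, hδ, h1⟩ := Pos.exists_inter k τ hτ hL₁ hM hcl hn.le hnZ.le hHZ i j hgen (r := m + 1) (hVW.trans hdim).le
      have h2 := hz V j hV (hVW.trans hdim)
      rw [Pos.intNum_eq_inter k n _ hM hMinv] at h2
      rw [Pos.intNum_eq_inter k n _ hL₁ hinv]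
      change inter k X n (OZ j) _ = 0 at h2
      change inter k Z n (OZ i) _ = 0
      rw [h2, mul_zero] at h1
      exact (mul_eq_zero.1 h1).resolve_left (pow_pos hN0 _).ne'
    refine ⟨m, ⟨hzZ, fun hall => hnz ?_⟩, ⟨N * ν, a, Nat.mul_pos hN hν, ha, fun μ hμ => ?_⟩,
      hQ Z n hnZ HZ hHZ L₁ L₁inv hL₁ hinv hnefZ (m + 1) hzZ⟩
    · intro V j _ hV hdim
      obtain ⟨W, i, hi, hW, hgen, hVW⟩ := FinInt.exists_over τ j
      obtain ⟨δ, hδ, h1⟩ := Pos.exists_inter k τ hτ hL₁ hM hcl hn.le hnZ.le hHZ i j hgen (r := m) hdim.le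
      have h2 := hall W i hW (hVW.symm.trans hdim)
      rw [Pos.intNum_eq_inter k n _ hL₁ hinv] at h2
      rw [Pos.intNum_eq_inter k n _ hM hMinv]
      change inter k Z n (OZ i) _ = 0 at h2
      change inter k X n (OZ j) _ = 0
      rw [h2, mul_zero] at h1
      exact (mul_eq_zero.1 h1.symm).resolve_left (by exact_mod_cast hδ.ne')
    · refine (hgr μ hμ).trans (Nat.mul_le_mul_left a ?_)
      obtain ⟨e⟩ := nonempty_pow_iso τ hL₁ hM hcl (ν * μ)
      rw [mul_assoc, CurvesC.DegIso.finrank_congr k e 0]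
      exact hfr _ (Fdesc.LocGen.isInvertible_tensorPow hM (ν * μ)) 0
  refine hP Z n hnZ HZ hHZ L₁ L₁inv hL₁ hinv hnefZ hgoodZ (I.comap τ)
    (Groth.Agent.Dix.IdealModCartier.isInvertible_idealMod hI') ?_ b
  obtain ⟨ν, hν, hnt⟩ := hsec
  refine ⟨N * ν, Nat.mul_pos hN hν, ?_⟩
  obtain ⟨e⟩ := nonempty_pow_twist_iso τ hL₁ hM hcl ν hIe hI'
  rw [← not_subsingleton_iff_nontrivial] at hnt ⊢
  intro hsg
  exact hnt (hsub _ (Fdesc.LocGen.isInvertible_tensorMod (Fdesc.LocGen.isInvertible_tensorPow hM ν) hI) 0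
    (HNat.subsingleton_of_iso e.symm hsg))

end K31.Rows
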