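import Groth.Agent.Vanish.K31.Good
import Groth.Agent.Vanish.K660.Rows
import Groth.Agent.AutSch.K936.PullEff

/-!
# Kollár surjectivity for good nef classes (S19525)

`surj_desc`: descent of surjectivity of `H^b(L⁻¹ ⊗ I) → H^b(L⁻¹)` along alterations;
`row19525`: S19525 modulo `Alt`, `EV`, `Dlem`, `Iit`.
-/

set_option autoImplicit false
universe u
open CategoryTheory CategoryTheory.Limits AlgebraicGeometry Opposite TopologicalSpace

namespace K31.GoodRow

open Groth.Agent Groth.Agent.Grpsch.PicGrp Groth.Agent.Fga.JacFactor Groth.Agent.Divis.EffCartier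
  Groth.Agent.Fdesc.LocGen Groth.Agent.Fga.PicMon
open K909.AltInterface K660.KolUp K660.Kol K931.Eff K660.Semi K660.InjP

theorem eff_pull {X Y : Scheme.{u}} [AlgebraicGeometry.IsIntegral X] (g : Y ⟶ X) [Surjective g] {c : Pic X}
    (h : Eff c) : Eff (pull g c) := by
  obtain ⟨L, hL, rfl, s, hs⟩ := h
  rw [pull_mk, eff_mk]
  exact K936.PullEff.exists_pull g hL s hs

/-- Kollár surjectivity from `PosP` on an alteration. -/
theorem surj_desc {k : Type u} [Field k] [IsAlgClosed k] [CharZero k] (hAlt : Alt k) (hEV : EV k)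
    {X X₁ : Scheme.{u}} (f : X ⟶ Spec (CommRingCat.of k)) [IsIntegral X] [IsProper f] [Smooth f] (n : ℕ)
    (hn : topologicalKrullDim X = n) {A : X.Modules} (hA : CohB1.IsAmple A) {L Linv : X.Modules}
    (hL : PicF.IsInvertible L) (hLinv : ClSub.IsInverseOf Linv L) (π : X₁ ⟶ X) [IsIntegral X₁] [IsProper π]
    [Surjective π] [Smooth (π ≫ f)] (hdim : topologicalKrullDim X₁ = topologicalKrullDim X) {A₁ : X₁.Modules}
    (hA₁ : CohB1.IsAmple A₁) (hP : PosP (pull π (mk L hL))) (I : X.IdealSheafData) (hI : BlowUp.IsEffCartierIdeal I)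
    (ν : ℕ) (hsec : Eff (mk L hL ^ ν * dcl I hI)) (b : ℕ) : Surj (LogNCD.inclTwist Linv I) b := by
  have hLi : PicF.IsInvertible Linv := (Groth.Agent.Dix.IdealModCartier.isInvertible_of_isInverseOf hLinv).1
  have hLπ := isInvertible_pullback π hL
  have hLiπ := isInvertible_pullback π hLi
  have hI₁ : BlowUp.IsEffCartierIdeal (I.comap π) := isEff_comap_of_generic π hI (by
    rw [K31.SectB.map_genericPoint π]
    exact K870.VertMain.genericPoint_notMem hI)
  have hLinvπ : ClSub.IsInverseOf ((Scheme.Modules.pullback π).obj Linv) ((Scheme.Modules.pullback π).obj L) := by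
    rw [isInverseOf_iff hLiπ hLπ, ← pull_mk π hLi, ← pull_mk π hL, ← map_mul, (isInverseOf_iff hLi hL).1 hLinv, map_one]
  have up := surjP hAlt (K910.DescNZ.desc k) hEV (π ≫ f) n (hdim.trans hn) A₁ hA₁ hLπ hLinvπ
    (by rw [← pull_mk π hL]; exact hP) (I.comap π) hI₁ ν (by
      rw [← pull_mk π hL, ← pull_dcl π hI hI₁, ← map_pow, ← map_mul]
      exact eff_pull π hsec) b
  have hIinv := Groth.Agent.Dix.IdealModCartier.isInvertible_idealMod hI
  have hM : PicF.IsInvertible (CohB1.tensorMod Linv (ClSub.idealMod I)) := isInvertible_tensorMod hLi hIinv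
  obtain ⟨e₁, he₁⟩ := K660.SubTw.exists_iso_pullback_inclTwist π hLi hI hM hI₁
    (isFinLocFree_of_isInvertible hLi)
    (isFinLocFree_of_isInvertible hLiπ)
  have down := (K910.DescNZ.desc k X X₁ f π hdim ⟨A, hA⟩ ⟨A₁, hA₁⟩).1 _ _ (LogNCD.inclTwist Linv I) b hM hLi
  refine down (Surj.of_iso e₁ (Iso.refl _) ?_ up)
  rw [he₁]
  exact Category.comp_id _

/-- S19525. -/
theorem row19525 (k : Type u) [Field k] [IsAlgClosed k] [CharZero k] (hAlt : Alt k) (hEV : EV k)
    (hD : K31.Good.Dlem.{u} k) (hIit : K31.Good.Iit.{u} k)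
    (X : Scheme.{u}) [X.Over (Spec (CommRingCat.of k))] [IsProper (X ↘ Spec (CommRingCat.of k))]
    [Smooth (X ↘ Spec (CommRingCat.of k))] [IrreducibleSpace X] (n : ℕ) (hn : topologicalKrullDim X = n)
    (H : X.Modules) (hH : CohB1.IsAmple H)
    (L Linv : X.Modules) (hL : PicF.IsInvertible L) (hLinv : ClSub.IsInverseOf Linv L)
    (hnef : (∀ (Y : Scheme.{u}) (i : Y ⟶ X) [IsClosedImmersion i], IsIntegral Y → topologicalKrullDim Y = 1 →
      0 ≤ Pic13.curveDeg k (i ≫ (X ↘ Spec (CommRingCat.of k))) ((Scheme.Modules.pullback i).obj L)))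
    (hgood : (∃ m : ℕ, ((∀ (V : Scheme.{u}) (i : V ⟶ X) [IsClosedImmersion i], IsIntegral V → topologicalKrullDim V = ((m + 1) : ℕ) →
          FGA.intNum k X n (fun _ : Fin (m + 1) => Linv) ((Scheme.Modules.pushforward i).obj (Coh.structureModule V)) = 0) ∧ ¬ (∀ (V : Scheme.{u}) (i : V ⟶ X) [IsClosedImmersion i], IsIntegral V → topologicalKrullDim V = ((m) : ℕ) →
          FGA.intNum k X n (fun _ : Fin (m) => Linv) ((Scheme.Modules.pushforward i).obj (Coh.structureModule V)) = 0)) ∧ ((∃ ν a : ℕ, 0 < ν ∧ 0 < a ∧ ∀ μ : ℕ, 1 ≤ μ →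
          μ ^ (m) ≤ a * Module.finrank k (Coh.HH X (CohB1.tensorPow L (ν * μ)) 0)) ∧ ¬ (∃ ν a : ℕ, 0 < ν ∧ 0 < a ∧ ∀ μ : ℕ, 1 ≤ μ →
          μ ^ (m + 1) ≤ a * Module.finrank k (Coh.HH X (CohB1.tensorPow L (ν * μ)) 0)))))
    (I : X.IdealSheafData) (hI : PicF.IsInvertible (ClSub.idealMod I))
    (hsec : ∃ ν : ℕ, 0 < ν ∧ Nontrivial (Coh.HH X (CohB1.tensorMod (CohB1.tensorPow L ν) (ClSub.idealMod I)) 0))
    (b : ℕ) :
    Function.Surjective (Sheaf.H.map ((SheafOfModules.toSheaf X.ringCatSheaf).map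
      (KoszTw.tensorMap (𝟙 Linv) (ClSub.idealModι I) ≫ (SecTwist.unitorR Linv).hom)) b) := by
  have hX : IsIntegral X := K802.GoodPoint.isIntegral_of_smooth (X ↘ Spec (CommRingCat.of k))
  obtain ⟨m, ⟨hN1, -⟩, hgrow, -⟩ := hgood
  obtain ⟨ν, -, hν⟩ := hsec
  have hIe := Dix.IdealModCartier.isEffCartierIdeal_of_isInvertible hI
  obtain ⟨X₁, p, A₁, hX₁, hsm, hp, hps, hdim, hA₁, hP⟩ := K31.Good.good hAlt hD hIit n hn H hH L Linv hL hLinv hnef m
    (fun V i _ hV hdim => hN1 V i hV hdim) hgrow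
  refine surj_desc hAlt hEV (X ↘ Spec (CommRingCat.of k)) n hn hH hL hLinv p hdim hA₁ hP I hIe ν ?_ b
  rw [K931.Basic.nontrivial_H0_iff, ← eff_mk (isInvertible_tensorMod (isInvertible_tensorPow hL ν) hI),
    ← mk_mul_mk (isInvertible_tensorPow hL ν) hI, mk_tensorPow hL] at hν
  exact hν

end K31.GoodRow
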