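import Groth.Agent.Vanish.K909.NefTens
import Groth.Agent.Fga.HodgeMult
import Groth.Agent.CohqA.IntClosed
import Groth.Agent.Sga3C.DimTop
import Groth.Agent.CycB.ImageInt

/-!
# Intersection numbers and nefness under finite morphisms

`inter_pull_OZ`: `(τ^*c · W) = δ (c · V)`, `δ > 0`, for `W` mapping onto `V`; `nef_pull`: nefness pulls back.
-/

set_option autoImplicit false
universe u
open CategoryTheory CategoryTheory.Limits AlgebraicGeometry TopologicalSpace

namespace K31.FinInt

open Groth.Agent Groth.Agent.Grpsch.PicGrp K909.InterML K909.Kleiman Groth.Agent.Pic13.H970.IntForm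

section dim

/-- The dimension of the source of a finite morphism is the dimension of its image. -/
theorem dim_eq_range {W X : Scheme.{u}} (f : W ⟶ X) [IsFinite f] :
    topologicalKrullDim W = topologicalKrullDim (Set.range f) := by
  have hcl : IsClosed (Set.range f) := f.isClosedMap.isClosed_range
  have : T0Space (Set.range f) := inferInstance
  have : QuasiSober (Set.range f) := hcl.isClosedEmbedding_subtypeVal.quasiSober
  refine Groth.Agent.Sga3C.DimTop.topologicalKrullDim_eq_of_closedMap (Set.rangeFactorization f)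
    (f.continuous.subtype_mk _) ?_ Set.rangeFactorization_surjective ?_
  · exact f.isClosedMap.subtype_mk _
  · intro x x' h he
    exact Groth.Agent.Sga3C.DimTop.eq_of_specializes_of_isIntegralHom f x x' h (congrArg Subtype.val he)

theorem range_eq_closure {W X : Scheme.{u}} (f : W ⟶ X) [IsFinite f] [IsIntegral W] :
    Set.range f = closure {f (genericPoint W)} := by
  rw [← Groth.Agent.Fga.HodgeMult.closure_range_eq, f.isClosedMap.isClosed_range.closure_eq]

theorem dim_eq_of_genericPoint {W V X : Scheme.{u}} (f : W ⟶ X) [IsFinite f] [IsIntegral W] (j : V ⟶ X) [IsClosedImmersion j]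
    [IsIntegral V] (h : j (genericPoint V) = f (genericPoint W)) : topologicalKrullDim V = topologicalKrullDim W := by
  rw [dim_eq_range f, dim_eq_range j, range_eq_closure f, range_eq_closure j, h]

end dim

variable (k : Type u) [Field k] {X Z : Scheme.{u}} [X.Over (Spec (CommRingCat.of k))]
  [Z.Over (Spec (CommRingCat.of k))] [IsProper (X ↘ Spec (CommRingCat.of k))]
  [IsProper (Z ↘ Spec (CommRingCat.of k))] (τ : Z ⟶ X)
  (hτ : τ ≫ (X ↘ Spec (CommRingCat.of k)) = Z ↘ Spec (CommRingCat.of k)) [IsFinite τ]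

omit [X.Over (Spec (CommRingCat.of k))] [Z.Over (Spec (CommRingCat.of k))] [IsProper (X ↘ Spec (CommRingCat.of k))]
  [IsProper (Z ↘ Spec (CommRingCat.of k))] in
/-- The image of an integral closed subscheme. -/
theorem exists_image {W : Scheme.{u}} (i : W ⟶ Z) [IsClosedImmersion i] [IsIntegral W] :
    ∃ (V : Scheme.{u}) (j : V ⟶ X) (_ : IsClosedImmersion j) (_ : IsIntegral V),
      j (genericPoint V) = (i ≫ τ) (genericPoint W) ∧ topologicalKrullDim V = topologicalKrullDim W := by
  obtain ⟨V, j, hj, hV, h⟩ := CohqA.IntClosed.exists_integral ((i ≫ τ) (genericPoint W))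
  exact ⟨V, j, hj, hV, h, dim_eq_of_genericPoint (i ≫ τ) j h⟩

omit [X.Over (Spec (CommRingCat.of k))] [Z.Over (Spec (CommRingCat.of k))] [IsProper (X ↘ Spec (CommRingCat.of k))]
  [IsProper (Z ↘ Spec (CommRingCat.of k))] in
/-- An integral closed subscheme over a given one. -/
theorem exists_over [Surjective τ] {V : Scheme.{u}} (j : V ⟶ X) [IsClosedImmersion j] [IsIntegral V] :
    ∃ (W : Scheme.{u}) (i : W ⟶ Z) (_ : IsClosedImmersion i) (_ : IsIntegral W),
      j (genericPoint V) = (i ≫ τ) (genericPoint W) ∧ topologicalKrullDim V = topologicalKrullDim W := by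
  obtain ⟨z, hz⟩ := τ.surjective (j (genericPoint V))
  obtain ⟨W, i, hi, hW, h⟩ := CohqA.IntClosed.exists_integral z
  have h1 : j (genericPoint V) = (i ≫ τ) (genericPoint W) := by
    rw [Scheme.Hom.comp_apply, h, hz]
  exact ⟨W, i, hi, hW, h1, dim_eq_of_genericPoint (i ≫ τ) j h1⟩

include hτ in
/-- The push formula, on the structure sheaves. -/
theorem inter_pull {d : ℕ} (hdX : topologicalKrullDim X ≤ d) {A : Z.Modules} (hA : CohB1.IsAmple A)
    {W V : Scheme.{u}} [W.Over (Spec (CommRingCat.of k))] [V.Over (Spec (CommRingCat.of k))]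
    (i : W ⟶ Z) [IsClosedImmersion i] [IsIntegral W] (j : V ⟶ X) [IsClosedImmersion j] [IsIntegral V]
    (hi : i ≫ (Z ↘ Spec (CommRingCat.of k)) = W ↘ Spec (CommRingCat.of k))
    (hj : j ≫ (X ↘ Spec (CommRingCat.of k)) = V ↘ Spec (CommRingCat.of k))
    (h : j (genericPoint V) = (i ≫ τ) (genericPoint W)) {r : ℕ} (hr : topologicalKrullDim V ≤ r) (c : Fin r → Pic X) :
    ∃ δ : ℕ, 0 < δ ∧ inter k W d (Coh.structureModule W) (fun l => pull i (pull τ (c l))) =
      δ * inter k V d (Coh.structureModule V) (fun l => pull j (c l)) := by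
  have hdim : topologicalKrullDim V = topologicalKrullDim W := dim_eq_of_genericPoint (i ≫ τ) j h
  have hVX : topologicalKrullDim V ≤ topologicalKrullDim X := dim_le_of_closed j
  haveI : IsProper (W ↘ Spec (CommRingCat.of k)) := by rw [← hi]; infer_instance
  obtain ⟨M, hM, hc⟩ := exists_rep X (fun l => (c l)⁻¹)
  have hg : (i ≫ τ) ≫ (X ↘ Spec (CommRingCat.of k)) = W ↘ Spec (CommRingCat.of k) := by
    rw [Category.assoc, hτ, hi]
  obtain ⟨δ, hδ, h1⟩ := Fga.HodgeMult.push_formula k X W V (i ≫ τ) hg j hj h d d r hdX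
    (hdim ▸ hVX.trans hdX) (hdim ▸ hr) hr M hM (CohqB.AmpCocycle.isAmple_pullback i hA)
  refine ⟨δ, hδ, ?_⟩
  have hM1 : ∀ l, PicF.IsInvertible ((Scheme.Modules.pullback (i ≫ τ)).obj (M l)) := fun l =>
    Fdesc.LocGen.isInvertible_pullback (i ≫ τ) (hM l)
  have hM2 : ∀ l, PicF.IsInvertible ((Scheme.Modules.pullback j).obj (M l)) := fun l =>
    Fdesc.LocGen.isInvertible_pullback j (hM l)
  rw [Pic13.H970.IntForm.intNum_eq k W d _ _ hM1, Pic13.H970.IntForm.intNum_eq k V d _ _ hM2] at h1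
  have e1 : (fun l => mk _ (hM1 l)) = fun l => (pull i (pull τ (c l)))⁻¹ := by
    funext l
    rw [← pull_comp, ← map_inv, ← pull_mk (i ≫ τ) (hM l)]
    exact congrArg (pull (i ≫ τ)) (congrFun hc l).symm
  have e2 : (fun l => mk _ (hM2 l)) = fun l => (pull j (c l))⁻¹ := by
    funext l
    rw [← map_inv, ← pull_mk j (hM l)]
    exact congrArg (pull j) (congrFun hc l).symm
  rw [e1, e2] at h1
  exact h1

include hτ in
/-- The push formula on closed subschemes. -/
theorem inter_pull_OZ {d : ℕ} (hdX : topologicalKrullDim X ≤ d) {A : Z.Modules} (hA : CohB1.IsAmple A)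
    {W V : Scheme.{u}} (i : W ⟶ Z) [IsClosedImmersion i] [IsIntegral W] (j : V ⟶ X) [IsClosedImmersion j] [IsIntegral V]
    (h : j (genericPoint V) = (i ≫ τ) (genericPoint W)) {r : ℕ} (hr : topologicalKrullDim V ≤ r) (c : Fin r → Pic X) :
    ∃ δ : ℕ, 0 < δ ∧ inter k Z d (OZ i) (fun l => pull τ (c l)) = δ * inter k X d (OZ j) c := by
  letI : W.Over (Spec (CommRingCat.of k)) := ⟨i ≫ (Z ↘ Spec (CommRingCat.of k))⟩
  letI : V.Over (Spec (CommRingCat.of k)) := ⟨j ≫ (X ↘ Spec (CommRingCat.of k))⟩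
  obtain ⟨δ, hδ, h1⟩ := inter_pull k τ hτ hdX hA i j rfl rfl h hr c
  refine ⟨δ, hδ, ?_⟩
  rw [OZ, OZ, inter_push k i rfl, inter_push k j rfl]
  exact h1

include hτ in
/-- Nefness pulls back along finite morphisms. -/
theorem nef_pull {A : Z.Modules} (hA : CohB1.IsAmple A) {d : ℕ} (hdX : topologicalKrullDim X ≤ d) {P : X.Modules}
    (hP : PicF.IsInvertible P) (hnef : Nef k X P) : Nef k Z ((Scheme.Modules.pullback τ).obj P) := by
  intro Y i _ hY hdim
  obtain ⟨V, j, hj, hV, hgen, hVY⟩ := exists_image τ i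
  letI : Y.Over (Spec (CommRingCat.of k)) := ⟨i ≫ (Z ↘ Spec (CommRingCat.of k))⟩
  letI : V.Over (Spec (CommRingCat.of k)) := ⟨j ≫ (X ↘ Spec (CommRingCat.of k))⟩
  have hi : i ≫ (Z ↘ Spec (CommRingCat.of k)) = Y ↘ Spec (CommRingCat.of k) := rfl
  have hj' : j ≫ (X ↘ Spec (CommRingCat.of k)) = V ↘ Spec (CommRingCat.of k) := rfl
  haveI : IsProper (Y ↘ Spec (CommRingCat.of k)) := by rw [← hi]; infer_instance
  haveI : IsProper (V ↘ Spec (CommRingCat.of k)) := by rw [← hj']; infer_instance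
  have hdimV : topologicalKrullDim V = 1 := hVY.trans hdim
  have hdimV' : topologicalKrullDim V = (1 : ℕ) := by rw [hdimV]; rfl
  have hdimY' : topologicalKrullDim Y = (1 : ℕ) := by rw [hdim]; rfl
  have h1d : ((1 : ℕ) : WithBot ℕ∞) ≤ d := hdimV' ▸ (dim_le_of_closed j).trans hdX
  obtain ⟨δ, hδ, h1⟩ := inter_pull k τ hτ hdX hA i j hi hj' hgen (r := 1) hdimV'.le (fun _ => mk P hP)
  have hPZ := Fdesc.LocGen.isInvertible_pullback τ hP
  have hPY := Fdesc.LocGen.isInvertible_pullback i hPZ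
  have hPV := Fdesc.LocGen.isInvertible_pullback j hP
  rw [hi, curveDeg_eq_degc k Y d (hdimY'.le.trans h1d) _ hPY hdimY'.le]
  have h2 := hnef V j inferInstance hdimV
  rw [hj', curveDeg_eq_degc k V d (hdimV'.le.trans h1d) _ hPV hdimV'.le] at h2
  have e1 : mk _ hPY = pull i (pull τ (mk P hP)) := rfl
  have e2 : mk _ hPV = pull j (mk P hP) := rfl
  rw [e1]
  rw [e2] at h2
  change 0 ≤ inter k Y d (Coh.structureModule Y) (fun _ : Fin 1 => pull i (pull τ (mk P hP)))
  rw [h1]
  exact mul_nonneg (by positivity) h2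

end K31.FinInt
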