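import Groth.Agent.Vanish.K660.SubTwPull
import Groth.Agent.Vanish.K31.NatRet
import Groth.Agent.Fdesc.LocGenTensor

/-!
# Twisting and pulling back the inclusions `E ⊗ I ⟶ E`

`hasIm_mapT`, `mono_mapT`: twisting by an invertible module; `exists_iso_up`: the arrow `upMap (E ⊗ I ⟶ E)` is isomorphic to
`up E ⊗ (I O_Z) ⟶ up E`.
-/

set_option autoImplicit false
universe u

open CategoryTheory CategoryTheory.Limits AlgebraicGeometry Opposite TopologicalSpace

namespace K31.ArrowUp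

open Groth.Agent.Fdesc.LocGen K660.SubTw K31.NatRet

variable {X Z : Scheme.{u}}

/-- Local frames of a twisted morphism. -/
theorem exists_frame_mapT {M N E : X.Modules} (hM : PicF.IsInvertible M) (hN : PicF.IsInvertible N) (hE : PicF.IsInvertible E)
    {φ : M ⟶ N} {I : X.IdealSheafData} (h : HasIm φ I) (x : X) :
    ∃ (U : X.affineOpens) (_ : x ∈ U.1) (m : Γ(CohB1.tensorMod M E, U.1)) (n : Γ(CohB1.tensorMod N E, U.1))
      (g : Γ(X, U.1)), IsGen m ∧ IsGen n ∧
      (Groth.Agent.Ega2.Tens.mapT φ (𝟙 E)).app U.1 m = g • n ∧ I.ideal U = Ideal.span {g} := by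
  obtain ⟨U, hxU, m, n, g, hm, hn, hg, hI⟩ := exists_frame hM hN h x
  obtain ⟨V, hxV, hVU, e, he⟩ := exists_isGen hE U.1 x hxU
  have hm' : IsGen (M := M) (U := U.1) m := Groth.Agent.Krr.H496.GenLocus.isGen_iff.1 hm
  have hn' : IsGen (M := N) (U := U.1) n := Groth.Agent.Krr.H496.GenLocus.isGen_iff.1 hn
  have he' : IsGen (M := E) (U := V.1) e := Groth.Agent.Krr.H496.GenLocus.isGen_iff.1 he
  refine ⟨V, hxV, tmul (res M hVU m) e, tmul (res N hVU n) e, ores hVU g, (hm'.res hVU).tmul he', (hn'.res hVU).tmul he',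
    ?_, ideal_resO I hVU g hI⟩
  have h1 := Groth.Agent.Ega2.Tens.mapT_tmul φ (𝟙 E) (res M hVU m) e
  refine h1.trans ?_
  have h2 : φ.app V.1 (res M hVU m) = ores hVU g • res N hVU n := by
    rw [app_res]
    exact (congrArg (res N hVU) hg).trans (res_smul N hVU g (show Γ(N, U.1) from n))
  rw [h2]
  exact smul_tmul _ _ _

theorem hasIm_of_frames {M N : X.Modules} {φ : M ⟶ N} {I : X.IdealSheafData}
    (h : ∀ x : X, ∃ (U : X.affineOpens) (_ : x ∈ U.1) (m : Γ(M, U.1)) (n : Γ(N, U.1))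
      (g : Γ(X, U.1)), IsGen m ∧ IsGen n ∧ φ.app U.1 m = g • n ∧ I.ideal U = Ideal.span {g}) : HasIm φ I := by
  intro x
  obtain ⟨U, hxU, m, n, g, hm, hn, hg, hI⟩ := h x
  refine ⟨U, g, hxU, hI, fun W hW e => ?_⟩
  have hg' : φ.app W.1 (res M hW m) = ores hW g • res N hW n := by
    rw [app_res, hg, res_smul]
  constructor
  · rintro ⟨s, rfl⟩
    obtain ⟨a, ha⟩ := (hm.res hW).exists_eq s
    refine ⟨a • res N hW n, ?_⟩
    change φ.app W.1 s = ores hW g • (a • res N hW n)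
    rw [ha, Scheme.Modules.Hom.app_smul, hg', smul_comm]
  · rintro ⟨e', rfl⟩
    obtain ⟨a, ha⟩ := (hn.res hW).exists_eq e'
    refine ⟨a • res M hW m, ?_⟩
    change φ.app W.1 (a • res M hW m) = ores hW g • e'
    rw [Scheme.Modules.Hom.app_smul, hg', ha, smul_comm]
    rfl

theorem hasIm_mapT {M N E : X.Modules} (hM : PicF.IsInvertible M) (hN : PicF.IsInvertible N) (hE : PicF.IsInvertible E)
    {φ : M ⟶ N} {I : X.IdealSheafData} (h : HasIm φ I) : HasIm (Groth.Agent.Ega2.Tens.mapT φ (𝟙 E)) I :=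
  hasIm_of_frames (exists_frame_mapT hM hN hE h)

/-- A morphism of invertible modules with image `I N`, `I` effective Cartier, is a monomorphism. -/
theorem mono_of_hasIm {M N : X.Modules} (hM : PicF.IsInvertible M) (hN : PicF.IsInvertible N) {φ : M ⟶ N}
    {I : X.IdealSheafData} (h : HasIm φ I) (hI : BlowUp.IsEffCartierIdeal I) : Mono φ := by
  apply mono_of_locally
  intro x O hxO
  obtain ⟨V, hxV, m, n, g, hm, hn, hg, hIg⟩ := exists_frame hM hN h x
  obtain ⟨V₀, hxV₀, t, ht, hIt⟩ := hI x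
  obtain ⟨W, hxW, hW⟩ := exists_affine_le x (V.1 ⊓ (V₀.1 ⊓ O)) ⟨hxV, hxV₀, hxO⟩
  have hWV : W.1 ≤ V.1 := hW.trans inf_le_left
  have hWV₀ : W.1 ≤ V₀.1 := hW.trans (inf_le_right.trans inf_le_left)
  have hgz : Groth.Agent.Sga67.Sec.resO X hWV g ∈ nonZeroDivisors Γ(X, W.1) := by
    refine mem_nonZeroDivisors_of_span_eq ?_ ((ideal_resO I hWV₀ t hIt).symm.trans (ideal_resO I hWV g hIg))
    exact Groth.Agent.Divis.EffCartier.res_mem_nonZeroDivisors V₀.2 W.2 hWV₀ ht
  refine ⟨W.1, hW.trans (inf_le_right.trans inf_le_right), hxW, fun s hs => ?_⟩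
  obtain ⟨a, rfl⟩ := (hm.res hWV).exists_smul s
  rw [map_smul, Groth.Agent.Sga67.Sec.appS_res, hg, Groth.Agent.Sga67.Sec.res_smul, ← mul_smul] at hs
  have h0 : a * Groth.Agent.Sga67.Sec.resO X hWV g = 0 := (hn.res hWV).smul_injective (hs.trans (zero_smul _ _).symm)
  have h2 : a = 0 := (mem_nonZeroDivisors_iff_right.1 hgz) a h0
  rw [h2, zero_smul]

section up

variable (τ : Z ⟶ X) {Kinv : X.Modules} {G : Z.Modules}

theorem isInvertible_up (hKi : PicF.IsInvertible Kinv) (hG : PicF.IsInvertible G) {E : X.Modules}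
    (hE : PicF.IsInvertible E) : PicF.IsInvertible (up τ Kinv G E) :=
  Groth.Agent.Fdesc.LocGen.isInvertible_tensorMod
    (Groth.Agent.Fdesc.LocGen.isInvertible_pullback τ (Groth.Agent.Fdesc.LocGen.isInvertible_tensorMod hE hKi)) hG

/-- The arrow `upMap (E ⊗ I ⟶ E)` is isomorphic to `up E ⊗ (I O_Z) ⟶ up E`. -/
theorem exists_iso_up (hKi : PicF.IsInvertible Kinv) (hG : PicF.IsInvertible G) {E : X.Modules}
    (hE : PicF.IsInvertible E) {I : X.IdealSheafData} (hI : BlowUp.IsEffCartierIdeal I)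
    (hI' : BlowUp.IsEffCartierIdeal (I.comap τ)) :
    ∃ e : up τ Kinv G (CohB1.tensorMod E (ClSub.idealMod I)) ≅ CohB1.tensorMod (up τ Kinv G E) (ClSub.idealMod (I.comap τ)),
      e.hom ≫ LogNCD.inclTwist (up τ Kinv G E) (I.comap τ) = upMap τ Kinv G (LogNCD.inclTwist E I) := by
  have hEI := Groth.Agent.Fdesc.LocGen.isInvertible_tensorMod hE
    (Groth.Agent.Dix.IdealModCartier.isInvertible_idealMod hI)
  have hlf : ∀ {W : Scheme.{u}} {L : W.Modules}, PicF.IsInvertible L → FlatMod.IsFinLocFree L := fun {W L} hL x => by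
    obtain ⟨U, hx, ⟨e⟩⟩ := hL x
    exact ⟨U, 1, hx, ⟨e ≪≫ (coproductUniqueIso (fun _ : Fin 1 => Coh.structureModule (U : Scheme.{u}))).symm⟩⟩
  have h1 := hasIm_inclTwist (hlf hE) hI
  have h2 := hasIm_mapT hEI hE hKi h1
  have hEK := Groth.Agent.Fdesc.LocGen.isInvertible_tensorMod hE hKi
  have hEIK := Groth.Agent.Fdesc.LocGen.isInvertible_tensorMod hEI hKi
  have h3 := hasIm_pullback τ hEIK hEK h2 hI'
  have h4 := hasIm_mapT (Groth.Agent.Fdesc.LocGen.isInvertible_pullback τ hEIK)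
    (Groth.Agent.Fdesc.LocGen.isInvertible_pullback τ hEK) hG h3
  have h5 : Mono (upMap τ Kinv G (LogNCD.inclTwist E I)) :=
    mono_of_hasIm (isInvertible_up τ hKi hG hEI) (isInvertible_up τ hKi hG hE) h4 hI'
  have h6 := K913.TauAff.mono_inclTwist (I.comap τ) (hlf (isInvertible_up τ hKi hG hE))
  exact exists_iso h4 (hasIm_inclTwist (hlf (isInvertible_up τ hKi hG hE)) hI')

end up

end K31.ArrowUp
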