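import Groth.Agent.Vanish.K31.GoodA
import Groth.Agent.Vanish.K31.Sect
import Groth.Agent.Vanish.K910.DescNZ
import Groth.Agent.Vanish.K870.VertMain

/-!
# Nef classes with numerical dimension equal to the Iitaka dimension

`core`: from an Iitaka fibration `X ⟵ X' ⟶ P^m` (`IIT`) of a nef class `L` with `(L^(m+1) · V) = 0`, an alteration
`p : X₁ ⟶ X` by a projective manifold on which `p^*L` satisfies `PosP`.
-/

set_option autoImplicit false
universe u
open CategoryTheory CategoryTheory.Limits AlgebraicGeometry Opposite TopologicalSpace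

namespace K31.Good

open Groth.Agent Groth.Agent.Grpsch.PicGrp Groth.Agent.Fga.JacFactor Groth.Agent.Divis.EffCartier
  Groth.Agent.Fdesc.LocGen Groth.Agent.Fga.PicMon
open K931.Eff K660.Semi K660.InjP K909.Kleiman K910.HZ K660.KolUp K31.GoodA

/-- (DLEM) a divisor not dominating the base of a fibration with section and of non-positive degree on contracted curves
comes from the base. -/
def Dlem (k : Type u) [Field k] : Prop :=
  ∀ {X Y : Scheme.{u}} [X.Over (Spec (CommRingCat.of k))] [Y.Over (Spec (CommRingCat.of k))] [IsIntegral X]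
    [IsIntegral Y] [IsProper (X ↘ Spec (CommRingCat.of k))] [IsProper (Y ↘ Spec (CommRingCat.of k))]
    (_ : ∀ x : X, IsIntegrallyClosed (X.presheaf.stalk x)) (HY : Y.Modules) (_ : CohB1.IsAmple HY) (φ : X ⟶ Y)
    (_ : φ ≫ (Y ↘ Spec (CommRingCat.of k)) = X ↘ Spec (CommRingCat.of k)) (σ : Y ⟶ X) (_ : σ ≫ φ = 𝟙 Y)
    (_ : ∀ y : Y, IsClosed {y} → _root_.IsPreconnected (φ ⁻¹' {y})) (E : X.IdealSheafData)
    (_ : BlowUp.IsEffCartierIdeal E) (_ : φ '' (E.support : Set X) ≠ Set.univ)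
    (_ : ∀ (C : Scheme.{u}) (i : C ⟶ X) [IsClosedImmersion i], IsIntegral C → topologicalKrullDim C = 1 →
      (∃ y : Y, Set.range (i ≫ φ) ⊆ {y}) → Pic13.curveDeg k (i ≫ (X ↘ Spec (CommRingCat.of k)))
        ((Scheme.Modules.pullback i).obj (ClSub.idealMod E)) ≤ 0),
    BlowUp.IsEffCartierIdeal (E.comap σ) ∧ (E.comap σ).comap φ = E

/-- (IIT) Iitaka fibrations with values in a projective space. -/
def Iit (k : Type u) [Field k] : Prop :=
  ∀ {X : Scheme.{u}} [X.Over (Spec (CommRingCat.of k))] [IsIntegral X] [IsProper (X ↘ Spec (CommRingCat.of k))]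
    (H : X.Modules) (_ : CohB1.IsAmple H) (L : X.Modules) (hL : PicF.IsInvertible L) (m : ℕ)
    (_ : ∃ ν a : ℕ, 0 < ν ∧ 0 < a ∧ ∀ μ : ℕ, 1 ≤ μ →
      μ ^ m ≤ a * Module.finrank k (Coh.HH X (CohB1.tensorPow L (ν * μ)) 0)),
    ∃ (e : ℕ) (X' : Scheme.{u}) (π : X' ⟶ X) (H' : X'.Modules) (φ : X' ⟶ CohB1.ProjSpace m k)
      (E : X'.IdealSheafData) (hE : BlowUp.IsEffCartierIdeal E) (hO : PicF.IsInvertible (Twist.twistProjSpace m k 1)),
      0 < e ∧ IsIntegral X' ∧ IsProper π ∧ Surjective π ∧ topologicalKrullDim X' = topologicalKrullDim X ∧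
        CohB1.IsAmple H' ∧ Surjective φ ∧
        φ ≫ CohB1.ProjSpace.toSpec m k = π ≫ (X ↘ Spec (CommRingCat.of k)) ∧
        pull π (mk L hL) ^ e * dcl E hE = pull φ (mk (Twist.twistProjSpace m k 1) hO)

variable {k : Type u} [Field k]

theorem isProper_of_over {X Y : Scheme.{u}} [X.Over (Spec (CommRingCat.of k))] [Y.Over (Spec (CommRingCat.of k))]
    [IsProper (X ↘ Spec (CommRingCat.of k))] [IsProper (Y ↘ Spec (CommRingCat.of k))] (f : X ⟶ Y)
    (hf : f ≫ (Y ↘ Spec (CommRingCat.of k)) = X ↘ Spec (CommRingCat.of k)) : IsProper f := by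
  have : IsProper (f ≫ (Y ↘ Spec (CommRingCat.of k))) := by rw [hf]; infer_instance
  exact IsProper.of_comp f (Y ↘ Spec (CommRingCat.of k))

/-- The part of the argument on the model with section. -/
theorem model (hD : Dlem.{u} k) {X X₂ Y P : Scheme.{u}} [X.Over (Spec (CommRingCat.of k))]
    [X₂.Over (Spec (CommRingCat.of k))] [Y.Over (Spec (CommRingCat.of k))] [P.Over (Spec (CommRingCat.of k))]
    [IsProper (X ↘ Spec (CommRingCat.of k))] [IsProper (X₂ ↘ Spec (CommRingCat.of k))]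
    [IsProper (Y ↘ Spec (CommRingCat.of k))] [IsProper (P ↘ Spec (CommRingCat.of k))]
    [IsIntegral X₂] [IsIntegral Y] [IsIntegral P] {L : X.Modules} (hL : PicF.IsInvertible L) (hnef : Nef k X L)
    (g : X₂ ⟶ X) (hg : g ≫ (X ↘ Spec (CommRingCat.of k)) = X₂ ↘ Spec (CommRingCat.of k))
    (ψ : X₂ ⟶ Y) (hψ : ψ ≫ (Y ↘ Spec (CommRingCat.of k)) = X₂ ↘ Spec (CommRingCat.of k))
    (τ : Y ⟶ P) (hτ : τ ≫ (P ↘ Spec (CommRingCat.of k)) = Y ↘ Spec (CommRingCat.of k)) [Surjective τ]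
    (σ : Y ⟶ X₂) (hσ : σ ≫ ψ = 𝟙 Y) (hn : ∀ x : X₂, IsIntegrallyClosed (X₂.presheaf.stalk x))
    (hconn : ∀ y : Y, _root_.IsPreconnected (ψ ⁻¹' {y})) {HY : Y.Modules} (hHY : CohB1.IsAmple HY)
    {O : P.Modules} (hO : CohB1.IsAmple O) (m : ℕ) (hP : topologicalKrullDim P = m)
    (hY : topologicalKrullDim Y = m) {E : X₂.IdealSheafData} (hE : BlowUp.IsEffCartierIdeal E)
    (hEY : ψ '' (E.support : Set X₂) ≠ Set.univ) {e : ℕ} (he : 0 < e)
    (heq : pull g (mk L hL) ^ e * dcl E hE = pull ψ (pull τ (mk O hO.1))) :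
    PosP (pull g (mk L hL)) := by
  have hgp := isProper_of_over g hg
  have hLg := isInvertible_pullback g hL
  -- `g^*L` is nef
  have hnef2 : NefC k X₂ (pull g (mk L hL)) := by
    rw [pull_mk g hL, ← nef_iff_nefC k X₂ hLg]
    exact K427.KleimanNef.nef_pullback k g hg L hL (K870.VertNef.nef_of_nef k hnef)
  -- DLEM
  obtain ⟨hEY', hcomap⟩ := hD hn HY hHY ψ hψ σ hσ (fun y _ => hconn y) E hE hEY (by
    rintro C i _ hCi hC ⟨y, hy⟩
    rw [curveDeg_eq_dOn k X₂ i hC (Dix.IdealModCartier.isInvertible_idealMod hE)]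
    exact dOn_nonpos ψ hnef2 _ e heq i hCi hC y hy)
  -- the class on the base
  have h1 : pull ψ (dcl (E.comap σ) hEY') = dcl E hE := by
    have h2 : BlowUp.IsEffCartierIdeal ((E.comap σ).comap ψ) := by rw [hcomap]; exact hE
    rw [pull_dcl ψ hEY' h2]
    have h3 : ∀ (D : X₂.IdealSheafData) (hD : BlowUp.IsEffCartierIdeal D), D = E → dcl D hD = dcl E hE := by
      rintro _ _ rfl
      rfl
    exact h3 _ _ hcomap
  set M : Pic Y := pull σ (pull g (mk L hL)) with hM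
  have hσψ : ∀ c : Pic Y, pull σ (pull ψ c) = c := by
    intro c
    rw [← pull_comp, hσ, pull_id]
  have h4 : pull g (mk L hL) ^ e = pull ψ (pull τ (mk O hO.1) * (dcl (E.comap σ) hEY')⁻¹) := by
    rw [map_mul, map_inv, h1, ← heq, mul_assoc, mul_inv_cancel, mul_one]
  have h5 : M ^ e = pull τ (mk O hO.1) * (dcl (E.comap σ) hEY')⁻¹ := by
    rw [hM, ← map_pow, h4, hσψ]
  have h6 : pull g (mk L hL) ^ e = pull ψ M ^ e := by rw [← map_pow (pull ψ) M e, h5, h4]
  -- `M` is nef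
  have hσg : (σ ≫ g) ≫ (X ↘ Spec (CommRingCat.of k)) = Y ↘ Spec (CommRingCat.of k) := by
    rw [Category.assoc, hg, ← hψ, ← Category.assoc, hσ, Category.id_comp]
  have hMnef : NefC k Y M := by
    rw [hM, ← pull_comp, pull_mk (σ ≫ g) hL, ← nef_iff_nefC k Y]
    exact K427.KleimanNef.nef_pullback k (σ ≫ g) hσg L hL (K870.VertNef.nef_of_nef k hnef)
  -- `M ^ e` is big
  have hYc : CompactSpace Y := K931.Basic.compactSpace k Y
  have hYs : Y.IsSeparated := K931.Basic.isSeparated k Y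
  have hPc : CompactSpace P := K931.Basic.compactSpace k P
  have hPs : P.IsSeparated := K931.Basic.isSeparated k P
  have hAmp : Amp (mk HY hHY.1) := (amp_mk hHY.1).mpr hHY
  have hbig : Big (M ^ e) := by
    rw [h5]
    refine (big_pull τ hτ m hP hY hO hHY (Amp.big ((amp_mk hO.1).mpr hO))).mul_eff hAmp ?_
    exact K88.GrowthUp.eff_inv_of_mono (Dix.IdealModCartier.isInvertible_idealMod hEY')
      (ClSub.idealModι (E.comap σ)) inferInstance
  have hpos : PosP M := posP_of_nef (k := k) m hY.le hMnef hAmp hbig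
  refine posP_of_pow_eq he h6 (posP_pull ψ ?_ hpos)
  -- generic points
  have hψs : Surjective ψ := ⟨fun y => ⟨σ y, by rw [← Scheme.Hom.comp_apply, hσ]; rfl⟩⟩
  exact K31.SectB.map_genericPoint ψ

theorem topologicalKrullDim_projSpace (m : ℕ) : topologicalKrullDim (CohB1.ProjSpace.{u} m k) = (m : ℕ) :=
  S10829.result k m

/-- (GOOD) from an Iitaka fibration. -/
theorem core [IsAlgClosed k] [CharZero k] (hAlt : K909.AltInterface.Alt.{u} k) (hD : Dlem.{u} k) {X : Scheme.{u}}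
    [X.Over (Spec (CommRingCat.of k))] [IsIntegral X] [IsProper (X ↘ Spec (CommRingCat.of k))] (n : ℕ)
    (hn : topologicalKrullDim X = n) {L Linv : X.Modules} (hL : PicF.IsInvertible L)
    (hLinv : ClSub.IsInverseOf Linv L) (hnef : Nef k X L) (m : ℕ)
    (hN1 : ∀ (V : Scheme.{u}) (i : V ⟶ X) [IsClosedImmersion i], IsIntegral V →
      topologicalKrullDim V = ((m + 1 : ℕ) : WithBot ℕ∞) →
        FGA.intNum k X n (fun _ : Fin (m + 1) => Linv)
          ((Scheme.Modules.pushforward i).obj (Coh.structureModule V)) = 0)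
    {e : ℕ} (he : 0 < e) {X' : Scheme.{u}} (π : X' ⟶ X) [IsIntegral X'] [IsProper π] [Surjective π]
    (hdim : topologicalKrullDim X' = topologicalKrullDim X) {H' : X'.Modules} (hH' : CohB1.IsAmple H')
    (φ : X' ⟶ CohB1.ProjSpace m k) [Surjective φ]
    (hφ : φ ≫ CohB1.ProjSpace.toSpec m k = π ≫ (X ↘ Spec (CommRingCat.of k)))
    {E : X'.IdealSheafData} (hE : BlowUp.IsEffCartierIdeal E)
    (hO : PicF.IsInvertible (Twist.twistProjSpace m k 1))
    (heq : pull π (mk L hL) ^ e * dcl E hE = pull φ (mk (Twist.twistProjSpace m k 1) hO)) :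
    ∃ (X₁ : Scheme.{u}) (p : X₁ ⟶ X) (A₁ : X₁.Modules), IsIntegral X₁ ∧ Smooth (p ≫ (X ↘ Spec (CommRingCat.of k))) ∧
      IsProper p ∧ Surjective p ∧ topologicalKrullDim X₁ = topologicalKrullDim X ∧ CohB1.IsAmple A₁ ∧
      PosP (pull p (mk L hL)) := by
  let P : Scheme.{u} := CohB1.ProjSpace m k
  let _ : P.Over (Spec (CommRingCat.of k)) := ⟨CohB1.ProjSpace.toSpec m k⟩
  have hPp : IsProper (P ↘ Spec (CommRingCat.of k)) := (inferInstance : IsProper (CohB1.ProjSpace.toSpec m k))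
  have hPint : IsIntegral P := (inferInstance : IsIntegral (CohB1.ProjSpace m k))
  let _ : X'.Over (Spec (CommRingCat.of k)) := ⟨π ≫ (X ↘ Spec (CommRingCat.of k))⟩
  have hX'p : IsProper (X' ↘ Spec (CommRingCat.of k)) :=
    (inferInstance : IsProper (π ≫ (X ↘ Spec (CommRingCat.of k))))
  have hO1 : CohB1.IsAmple (Twist.twistProjSpace m k 1) := VarietyA.AmpleField.isAmple_twistProjSpace m k
  have hvert := K870.VertMain.main k (K424.NakMain.nak k) n hn.le hL hLinv hnef m hN1 π rfl hH' φ hφ hE e hO heq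
  obtain ⟨X₂, Y₁, τ, q, ψ, σ, hX₂, hY₁, hτp, hτs, hdimY, -, ⟨HY, hHY⟩, hqp, hqs, hdimq, ⟨A₂, hA₂⟩, hnorm, hsq, hσ,
    hconn⟩ := K31.Sect.sect hAlt (X' ↘ Spec (CommRingCat.of k)) (CohB1.ProjSpace.toSpec m k) H' hH' φ hφ
  let _ : X₂.Over (Spec (CommRingCat.of k)) := ⟨q ≫ (X' ↘ Spec (CommRingCat.of k))⟩
  let _ : Y₁.Over (Spec (CommRingCat.of k)) := ⟨τ ≫ (P ↘ Spec (CommRingCat.of k))⟩
  have hX₂p : IsProper (X₂ ↘ Spec (CommRingCat.of k)) :=
    (inferInstance : IsProper (q ≫ (X' ↘ Spec (CommRingCat.of k))))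
  have hY₁p : IsProper (Y₁ ↘ Spec (CommRingCat.of k)) :=
    (inferInstance : IsProper (τ ≫ (P ↘ Spec (CommRingCat.of k))))
  have hψ : ψ ≫ (Y₁ ↘ Spec (CommRingCat.of k)) = X₂ ↘ Spec (CommRingCat.of k) := by
    change ψ ≫ τ ≫ (P ↘ Spec (CommRingCat.of k)) = q ≫ (X' ↘ Spec (CommRingCat.of k))
    rw [← Category.assoc, ← hsq, Category.assoc]
    exact congrArg (q ≫ ·) hφ
  have hηq : q (genericPoint X₂) = genericPoint X' := K31.SectB.map_genericPoint q
  have hE2 : BlowUp.IsEffCartierIdeal (E.comap q) := by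
    refine K660.Kol.isEff_comap_of_generic q hE ?_
    rw [hηq]
    exact K870.VertMain.genericPoint_notMem hE
  have hPdim : topologicalKrullDim P = m := topologicalKrullDim_projSpace m
  have hpos : PosP (pull (q ≫ π) (mk L hL)) := by
    refine model hD hL hnef (q ≫ π) (by rw [Category.assoc]; rfl) ψ hψ τ rfl σ hσ hnorm hconn hHY hO1 m hPdim
      (hdimY.trans hPdim) hE2 ?_ he ?_
    · intro huniv
      apply hvert
      rw [Set.eq_univ_iff_forall]
      intro z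
      obtain ⟨y, rfl⟩ := hτs.surj z
      obtain ⟨x, hx, rfl⟩ : y ∈ ψ '' ((E.comap q).support : Set X₂) := by rw [huniv]; trivial
      refine ⟨q x, ?_, ?_⟩
      · rw [Scheme.IdealSheafData.support_comap] at hx
        exact hx
      · rw [← Scheme.Hom.comp_apply, hsq, Scheme.Hom.comp_apply]
    · rw [pull_comp, ← pull_dcl q hE hE2, ← map_pow, ← map_mul, heq, ← pull_comp, hsq, pull_comp]
  -- a smooth alteration of `X₂`
  obtain ⟨X₁, ρ, A₁, r, D, hX₁, hsm, hρp, hρs, hdimρ, hA₁, -, -, -⟩ := hAlt X₂ (X₂ ↘ Spec (CommRingCat.of k)) A₂ hA₂ ∅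
    isClosed_empty (Set.empty_ne_univ (α := X₂))
  refine ⟨X₁, ρ ≫ q ≫ π, A₁, hX₁, ?_, inferInstance, inferInstance, ?_, hA₁, ?_⟩
  · rw [Category.assoc, Category.assoc]
    exact hsm
  · rw [hdimρ, hdimq, hdim]
  · rw [pull_comp]
    exact posP_pull ρ (K31.SectB.map_genericPoint ρ) hpos

/-- **(GOOD)**. -/
theorem good [IsAlgClosed k] [CharZero k] (hAlt : K909.AltInterface.Alt.{u} k) (hD : Dlem.{u} k) (hI : Iit.{u} k)
    {X : Scheme.{u}} [X.Over (Spec (CommRingCat.of k))] [IsIntegral X] [IsProper (X ↘ Spec (CommRingCat.of k))]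
    (n : ℕ) (hn : topologicalKrullDim X = n) (A : X.Modules) (hA : CohB1.IsAmple A) (L Linv : X.Modules)
    (hL : PicF.IsInvertible L) (hLinv : ClSub.IsInverseOf Linv L) (hnef : Nef k X L) (m : ℕ)
    (hN1 : ∀ (V : Scheme.{u}) (i : V ⟶ X) [IsClosedImmersion i], IsIntegral V →
      topologicalKrullDim V = ((m + 1 : ℕ) : WithBot ℕ∞) →
        FGA.intNum k X n (fun _ : Fin (m + 1) => Linv)
          ((Scheme.Modules.pushforward i).obj (Coh.structureModule V)) = 0)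
    (hgrow : ∃ ν a : ℕ, 0 < ν ∧ 0 < a ∧ ∀ μ : ℕ, 1 ≤ μ →
      μ ^ m ≤ a * Module.finrank k (Coh.HH X (CohB1.tensorPow L (ν * μ)) 0)) :
    ∃ (X₁ : Scheme.{u}) (p : X₁ ⟶ X) (A₁ : X₁.Modules), IsIntegral X₁ ∧ Smooth (p ≫ (X ↘ Spec (CommRingCat.of k))) ∧
      IsProper p ∧ Surjective p ∧ topologicalKrullDim X₁ = topologicalKrullDim X ∧ CohB1.IsAmple A₁ ∧
      PosP (pull p (mk L hL)) := by
  obtain ⟨e, X', π, H', φ, E, hE, hO, he, hX', hπ, hπs, hdim, hH', hφs, hφ, heq⟩ := hI A hA L hL m hgrow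
  exact core hAlt hD n hn hL hLinv hnef m hN1 he π hdim hH' φ hφ hE hO heq

end K31.Good
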