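import Groth.Agent.Vanish.K661.Grow
import Groth.Agent.Vanish.K88.PullH0
import Groth.Agent.Vanish.K88.GrowthUp
import Groth.Agent.Vanish.K88.BtoA
import Groth.Agent.Vanish.K660.InjP
import Groth.Agent.PosLin.K931.BigGrowth
import Groth.Agent.VarietyB.GGStalk
import Groth.Agent.Vanish.K870.VertMain

/-!
# Positivity classes: pull-backs of `PosP`, nef times big

* `posP_pull`: `PosP` pulls back along morphisms respecting generic points;
* `posP_of_nef`: `c` nef and `c^e` big give `PosP c`;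
* `big_pull`: pull-back of an ample class along a surjective morphism of the same dimension is big;
* `dOn_nonpos`: the degree computation on contracted curves.
-/

set_option autoImplicit false
universe u
open CategoryTheory CategoryTheory.Limits AlgebraicGeometry Opposite TopologicalSpace

namespace K31.GoodA

open Groth.Agent Groth.Agent.Grpsch.PicGrp Groth.Agent.Fga.JacFactor Groth.Agent.Divis.EffCartier
  Groth.Agent.Fdesc.LocGen Groth.Agent.Fga.PicMon
open K931.Eff K660.Semi K660.InjP K909.Kleiman K910.HZ K660.KolUp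

section cls

variable {X Y : Scheme.{u}}

theorem ggc_pull (g : Y ⟶ X) {c : Pic X} (h : GGc c) : GGc (pull g c) := by
  obtain ⟨L, hL, rfl, hg⟩ := h
  rw [pull_mk, ggc_mk]
  exact VarietyB.GGStalk.isGloballyGenerated_pullback g L hg

theorem sa_pull (g : Y ⟶ X) {c : Pic X} (h : SA c) : SA (pull g c) := by
  obtain ⟨m, hm, h⟩ := h
  exact ⟨m, hm, by rw [← map_pow]; exact ggc_pull g h⟩

theorem sa_of_pow {c : Pic X} {N : ℕ} (hN : 0 < N) (h : SA (c ^ N)) : SA c := by
  obtain ⟨m, hm, h⟩ := h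
  exact ⟨N * m, Nat.mul_pos hN hm, by rw [pow_mul]; exact h⟩

theorem isEff_pow {C : X.IdealSheafData} (hC : BlowUp.IsEffCartierIdeal C) (n : ℕ) :
    BlowUp.IsEffCartierIdeal (C ^ n) := by
  induction n with
  | zero => rw [pow_zero]; exact isEff_top
  | succ n ih => rw [pow_succ]; exact isEff_mul ih hC

theorem dcl_pow {C : X.IdealSheafData} (hC : BlowUp.IsEffCartierIdeal C) (n : ℕ) :
    dcl (C ^ n) (isEff_pow hC n) = dcl C hC ^ n := by
  induction n with
  | zero =>
    have : ∀ (D : X.IdealSheafData) (hD : BlowUp.IsEffCartierIdeal D), D = ⊤ → dcl D hD = 1 := by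
      rintro _ hD rfl
      exact dcl_top
    rw [pow_zero (dcl C hC)]
    exact this _ _ (pow_zero _)
  | succ n ih =>
    have : ∀ (D : X.IdealSheafData) (hD : BlowUp.IsEffCartierIdeal D), D = C ^ n * C →
        dcl D hD = dcl (C ^ n * C) (isEff_mul (isEff_pow hC n) hC) := by
      rintro _ hD rfl
      rfl
    rw [this _ _ (pow_succ C n), dcl_mul (isEff_pow hC n) hC, ih, pow_succ]

theorem posP_pull [AlgebraicGeometry.IsIntegral X] [AlgebraicGeometry.IsIntegral Y] (g : Y ⟶ X)
    (hg : g (genericPoint Y) = genericPoint X) {c : Pic X} (h : PosP c) : PosP (pull g c) := by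
  obtain ⟨C, hC, h⟩ := h
  have hC' : BlowUp.IsEffCartierIdeal (C.comap g) := by
    refine K660.Kol.isEff_comap_of_generic g hC ?_
    rw [hg]
    exact K870.VertMain.genericPoint_notMem hC
  refine ⟨C.comap g, hC', fun N₀ => ?_⟩
  obtain ⟨N, hN, hs⟩ := h N₀
  refine ⟨N, hN, ?_⟩
  rw [← pull_dcl g hC hC', ← map_pow, ← map_mul]
  exact sa_pull g hs

/-- `PosP` of a class with the same `e`-th power. -/
theorem posP_of_pow_eq {c d : Pic X} {e : ℕ} (he : 0 < e) (hcd : c ^ e = d ^ e) (h : PosP d) : PosP c := by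
  obtain ⟨C, hC, h⟩ := h
  refine ⟨C ^ e, isEff_pow hC e, fun N₀ => ?_⟩
  obtain ⟨N, hN, hs⟩ := h N₀
  refine ⟨e * N, by nlinarith, ?_⟩
  rw [dcl_pow, pow_mul, hcd, ← pow_mul, mul_comm e N, pow_mul, ← mul_pow]
  exact hs.pow e

end cls

section nef

variable {k : Type u} [Field k] {X : Scheme.{u}} [X.Over (Spec (CommRingCat.of k))]
  [IsProper (X ↘ Spec (CommRingCat.of k))] [AlgebraicGeometry.IsIntegral X]

/-- A nef class with a big power. -/
theorem posP_of_nef (d : ℕ) (hd : topologicalKrullDim X ≤ d) {c a : Pic X} (hc : NefC k X c) (ha : Amp a) {e : ℕ}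
    (hb : Big (c ^ e)) : PosP c := by
  have hcomp : CompactSpace X := K931.Basic.compactSpace k X
  have hsep : X.IsSeparated := K931.Basic.isSeparated k X
  obtain ⟨m, hm, h⟩ := hb a ha
  obtain ⟨D, hD, hDc⟩ := K660.Semi.Eff.exists_div h
  refine ⟨D, hD, fun N₀ => ⟨N₀ + e * m, by omega, ?_⟩⟩
  have : c ^ (N₀ + e * m) * dcl D hD = c ^ N₀ * a := by
    rw [hDc, ← pow_mul, inv_div, pow_add, mul_assoc, mul_div_cancel]
  rw [this]
  exact Amp.sa (K661.Grow.amp_of_nefC d hd hc ha N₀)

end nef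

section big

variable {k : Type u} [Field k] {X Y : Scheme.{u}} [X.Over (Spec (CommRingCat.of k))] [Y.Over (Spec (CommRingCat.of k))]
  [IsProper (X ↘ Spec (CommRingCat.of k))] [IsProper (Y ↘ Spec (CommRingCat.of k))]
  [AlgebraicGeometry.IsIntegral X] [AlgebraicGeometry.IsIntegral Y]

/-- Big classes pull back to big classes along surjective morphisms of the same dimension. -/
theorem big_pull (f : Y ⟶ X) (hf : f ≫ (X ↘ Spec (CommRingCat.of k)) = Y ↘ Spec (CommRingCat.of k)) [Surjective f]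
    (n : ℕ) (hn : topologicalKrullDim X = n) (hn' : topologicalKrullDim Y = n) {H : X.Modules}
    (hH : CohB1.IsAmple H) {H' : Y.Modules} (hH' : CohB1.IsAmple H') {c : Pic X} (hc : Big c) : Big (pull f c) := by
  obtain ⟨L, hL, rfl⟩ := exists_mk c
  rw [big_mk_iff hL] at hc
  have h1 := K931.BigGrowth.growth_of_big (k := k) n hn hH hL hc
  rw [K931.BigGrowth.growth_iff] at h1
  obtain ⟨C, hC, m₁, h1⟩ := h1
  rw [pull_mk f hL, big_mk_iff]
  refine K931.BigGrowth.big_of_growth (k := k) n hn' hH' (isInvertible_pullback f hL) ?_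
  rw [K931.BigGrowth.growth_iff]
  refine ⟨C, hC, m₁, fun m hm => (h1 m hm).trans ?_⟩
  have h2 := K88.PullH0.HZ_le_pull (k := k) f hf (isInvertible_tensorPow hL m)
  have e : mc ((Scheme.Modules.pullback f).obj (CohB1.tensorPow L m)) = mc ((Scheme.Modules.pullback f).obj L) ^ m := by
    have h3 : mk _ (isInvertible_pullback f (isInvertible_tensorPow hL m)) =
        mk _ (isInvertible_pullback f hL) ^ m := by
      rw [← pull_mk f (isInvertible_tensorPow hL m), mk_tensorPow hL, map_pow, pull_mk]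
    have h4 := congrArg (Pic13.H970.IntForm.toMC Y) h3
    rwa [map_pow] at h4
  rw [e, mc_tensorPow] at h2
  exact_mod_cast h2

end big

section deg

variable {k : Type u} [Field k] {X Y Z : Scheme.{u}} [X.Over (Spec (CommRingCat.of k))]
  [IsProper (X ↘ Spec (CommRingCat.of k))]

theorem dOn_one {C : Scheme.{u}} (i : C ⟶ X) [IsClosedImmersion i] (hC : topologicalKrullDim C = 1) :
    dOn k X i 1 = 0 := by
  have h := dOn_mul k X i hC 1 1
  rw [mul_one] at h
  omega

/-- The class of a pull-back along a constant morphism is trivial. -/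
theorem pull_const (f : X ⟶ Y) (y : Y) (hf : Set.range f ⊆ {y}) (c : Pic Y) : pull f c = 1 := by
  obtain ⟨L, hL, rfl⟩ := exists_mk c
  rw [pull_mk f hL, one_def, mk_eq_iff]
  exact K432.CurveDeg.nonempty_pullback_iso_of_const f y (fun x => hf ⟨x, rfl⟩) L hL

/-- The degree of `O(-E)` on contracted curves when `ℓ^e(-E)` is pulled back from the base and `ℓ` is nef. -/
theorem dOn_nonpos (ψ : X ⟶ Y) {ℓ δ : Pic X} (hℓ : NefC k X ℓ) (t : Pic Y) (e : ℕ) (h : ℓ ^ e * δ = pull ψ t)
    {C : Scheme.{u}} (i : C ⟶ X) [IsClosedImmersion i] (hCi : IsIntegral C) (hC : topologicalKrullDim C = 1)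
    (y : Y) (hy : Set.range (i ≫ ψ) ⊆ {y}) : dOn k X i δ ≤ 0 := by
  have h1 := congrArg (dOn k X i) h
  rw [dOn_mul k X i hC, dOn_pow k X i hC] at h1
  have h2 : dOn k X i (pull ψ t) = dOn k X i 1 := by
    unfold dOn
    have h3 : pull i (pull ψ t) = pull i (1 : Pic X) := by
      rw [← pull_comp, pull_const (i ≫ ψ) y hy, map_one]
    rw [h3]
  rw [h2, dOn_one i hC] at h1
  have h4 := hℓ C i hCi hC
  have h5 : (0 : ℤ) ≤ e * dOn k X i ℓ := mul_nonneg (by positivity) h4
  omega

end deg

end K31.GoodA
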