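import Groth.Agent.Vanish.K31.Setup

/-!
# Transfer of positivity to the Kawamata cover

For `L₁^N = τ^* M`: nefness, intersection numbers, growth of sections and semi-ampleness of `M` give those of `L₁`.
-/

set_option autoImplicit false
universe u

open CategoryTheory CategoryTheory.Limits AlgebraicGeometry Opposite TopologicalSpace

namespace K31.Pos

open Groth.Agent Groth.Agent.Grpsch.PicGrp Groth.Agent.Fga.JacFactor K909.Kleiman K909.InterML K31.Setup

variable (k : Type u) [Field k] {X Z : Scheme.{u}} [X.Over (Spec (CommRingCat.of k))]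
  [Z.Over (Spec (CommRingCat.of k))] [IsProper (X ↘ Spec (CommRingCat.of k))]
  [IsProper (Z ↘ Spec (CommRingCat.of k))] (τ : Z ⟶ X)
  (hτ : τ ≫ (X ↘ Spec (CommRingCat.of k)) = Z ↘ Spec (CommRingCat.of k)) [IsFinite τ]

section pow

omit [X.Over (Spec (CommRingCat.of k))] [IsProper (X ↘ Spec (CommRingCat.of k))] in
/-- `((c^N)^r · F) = N^r (c^r · F)`. -/
theorem inter_pow {d : ℕ} (hd : topologicalKrullDim Z ≤ d) {F : Z.Modules} (hF : Coh.IsCoh F) {r : ℕ}
    (hr : topologicalKrullDim (CohB1.support F) ≤ r) (c : Pic Z) (N : ℕ) :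
    inter k Z d F (fun _ : Fin r => c ^ N) = (N : ℤ) ^ r * inter k Z d F (fun _ : Fin r => c) := by
  have h := (ml k Z d hd F hF hr).map_smul_univ (fun _ => (N : ℤ)) (fun _ => Additive.ofMul c)
  rw [ml_apply, ml_apply, Finset.prod_const, Finset.card_univ, Fintype.card_fin, smul_eq_mul] at h
  have e1 : (fun _ : Fin r => Additive.toMul ((N : ℤ) • Additive.ofMul c)) = fun _ => c ^ N := by
    funext _
    rw [natCast_zsmul, toMul_nsmul]
    rfl
  rw [e1] at h
  exact h

omit [X.Over (Spec (CommRingCat.of k))] [IsProper (X ↘ Spec (CommRingCat.of k))] in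
theorem nef_of_pow {L₁ P : Z.Modules} (hL₁ : PicF.IsInvertible L₁) (hP : PicF.IsInvertible P) {N : ℕ} (hN : 0 < N)
    (h : mk L₁ hL₁ ^ N = mk P hP) (hnef : Nef k Z P) : Nef k Z L₁ := by
  rw [nef_iff_nefC k Z hP, ← h] at hnef
  rw [nef_iff_nefC k Z hL₁]
  intro Y i _ hY hdim
  have h1 := hnef Y i hY hdim
  rw [dOn_pow k Z i hdim] at h1
  have h2 : (0 : ℤ) < N := by exact_mod_cast hN
  exact nonneg_of_mul_nonneg_right h1 h2

end pow

section transfer

variable {L₁ L₁inv : Z.Modules} (hL₁ : PicF.IsInvertible L₁) (hinv : ClSub.IsInverseOf L₁inv L₁) {M : X.Modules}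
  (hM : PicF.IsInvertible M) {N : ℕ} (hN : 0 < N) (h : mk L₁ hL₁ ^ N = pull τ (mk M hM))

include hτ hN h in
theorem nef_transfer {n : ℕ} (hn : topologicalKrullDim X ≤ n) {A : Z.Modules} (hA : CohB1.IsAmple A)
    (hnef : Nef k X M) : Nef k Z L₁ :=
  nef_of_pow k hL₁ (Fdesc.LocGen.isInvertible_pullback τ hM) hN h (FinInt.nef_pull k τ hτ hA hn hM hnef)

/-- `intNum` at inverses is `inter`. -/
theorem intNum_eq_inter {Y : Scheme.{u}} [Y.Over (Spec (CommRingCat.of k))] (d : ℕ) (F : Y.Modules) {P Pinv : Y.Modules}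
    (hP : PicF.IsInvertible P) (h : ClSub.IsInverseOf Pinv P) (r : ℕ) :
    FGA.intNum k Y d (fun _ : Fin r => Pinv) F = inter k Y d F (fun _ : Fin r => mk P hP) := by
  obtain ⟨e⟩ := h
  exact (inter_mk k Y d F (fun _ => P) (fun _ => Pinv) (fun _ => hP)
    (fun _ => isInvertible_left (⟨e⟩ : ClSub.IsInverseOf Pinv P)) (fun _ => ⟨Ega2.Tens.swap _ _ ≪≫ e⟩)).symm

include hτ h in
/-- Intersection numbers on closed subschemes. -/
theorem exists_inter {n : ℕ} (hn : topologicalKrullDim X ≤ n) (hnZ : topologicalKrullDim Z ≤ n) {A : Z.Modules}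
    (hA : CohB1.IsAmple A) {W V : Scheme.{u}} (i : W ⟶ Z) [IsClosedImmersion i] [IsIntegral W] (j : V ⟶ X)
    [IsClosedImmersion j] [IsIntegral V] (hij : j (genericPoint V) = (i ≫ τ) (genericPoint W)) {r : ℕ}
    (hr : topologicalKrullDim V ≤ r) :
    ∃ δ : ℕ, 0 < δ ∧ (N : ℤ) ^ r * inter k Z n (OZ i) (fun _ : Fin r => mk L₁ hL₁) =
      δ * inter k X n (OZ j) (fun _ : Fin r => mk M hM) := by
  obtain ⟨δ, hδ, h1⟩ := FinInt.inter_pull_OZ k τ hτ hn hA i j hij hr (fun _ => mk M hM)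
  have nZ : IsNoetherian Z := Fga.IntAdd.isNoetherian k Z
  refine ⟨δ, hδ, ?_⟩
  rw [← h1, ← inter_pow k hnZ (isCoh_OZ i) (by rw [dim_OZ, ← FinInt.dim_eq_of_genericPoint (i ≫ τ) j hij]; exact hr), h]

include hτ hN h hinv in
/-- The top self-intersection. -/
theorem intNum_pos [IsIntegral X] [IsIntegral Z] [Surjective τ] {n : ℕ} (hn : topologicalKrullDim X = n)
    (hnZ : topologicalKrullDim Z = n) {A : Z.Modules} (hA : CohB1.IsAmple A) {Minv : X.Modules}
    (hMinv : ClSub.IsInverseOf Minv M) (hbig : 0 < FGA.intNum k X n (fun _ : Fin n => Minv) (Coh.structureModule X)) :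
    0 < FGA.intNum k Z n (fun _ : Fin n => L₁inv) (Coh.structureModule Z) := by
  have nZ : IsNoetherian Z := Fga.IntAdd.isNoetherian k Z
  rw [intNum_eq_inter k n _ hM hMinv] at hbig
  rw [intNum_eq_inter k n _ hL₁ hinv]
  have hgen : (𝟙 X : X ⟶ X) (genericPoint X) = ((𝟙 Z : Z ⟶ Z) ≫ τ) (genericPoint Z) := by
    rw [Category.id_comp]
    change genericPoint X = τ (genericPoint Z)
    have h1 : closure (Set.range τ) = closure {τ (genericPoint Z)} := Fga.HodgeMult.closure_range_eq τ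
    rw [τ.surjective.range_eq, closure_univ] at h1
    exact (genericPoint_spec X).eq h1.symm
  obtain ⟨δ, hδ, h1⟩ := FinInt.inter_pull k τ hτ hn.le hA (𝟙 Z) (𝟙 X) (Category.id_comp _) (Category.id_comp _) hgen
    (r := n) hn.le (fun _ => mk M hM)
  simp only [pull_id] at h1
  have hs : topologicalKrullDim (CohB1.support (Coh.structureModule Z)) ≤ n := by
    rw [Pic13.H970.Assembly.support_unit]
    exact (Topology.IsInducing.subtypeVal.topologicalKrullDim_le).trans hnZ.le
  have h2 := inter_pow k hnZ.le (CurvesC.UnitCoh.isCoh_unit Z) hs (mk L₁ hL₁) N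
  rw [h, h1] at h2
  have h3 : (0 : ℤ) < (N : ℤ) ^ n * inter k Z n (Coh.structureModule Z) (fun _ : Fin n => mk L₁ hL₁) := by
    rw [← h2]
    positivity
  exact pos_of_mul_pos_right h3 (by positivity)

end transfer

end K31.Pos
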