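import Groth.Agent.Ega3B.NormalBirational
import Groth.Agent.S2422
import Groth.Agent.S2431
import Mathlib.AlgebraicGeometry.Noetherian
import Mathlib.AlgebraicGeometry.Morphisms.Proper
import Mathlib.AlgebraicGeometry.Morphisms.UniversallyOpen

/-!
# Sections of proper morphisms

* `restrict_fst`: restrictions of base changes;
* `exists_lift`: a section of a finite morphism over a nonempty open of a normal scheme extends;
* `isIso_app`, `isPreconnected_fibre`: a proper morphism `ψ : X ⟶ Y` with a section, `X`, `Y` integral, has `ψ_* O_X = O_Y` and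
  connected fibres.
-/

set_option autoImplicit false
universe u

open CategoryTheory CategoryTheory.Limits AlgebraicGeometry TopologicalSpace

namespace K31.SectA

/-- Restrictions of base changes are base changes of restrictions. -/
theorem restrict_fst (P : MorphismProperty Scheme.{u}) [P.IsStableUnderBaseChange] {X Y S : Scheme.{u}} (φ : X ⟶ S)
    (τ : Y ⟶ S) (V : S.Opens) (h : P (τ ∣_ V)) : P (pullback.fst φ τ ∣_ (φ ⁻¹ᵁ V)) := by
  have h1 := (isPullback_morphismRestrict (pullback.fst φ τ) (φ ⁻¹ᵁ V)).flip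
  have h2 := (IsPullback.of_hasPullback φ τ).flip
  have h3 := h1.paste_horiz h2
  have h4 := (isPullback_morphismRestrict τ V).flip
  have e : (φ ⁻¹ᵁ V).ι ≫ φ = (φ ∣_ V) ≫ V.ι := (morphismRestrict_ι φ V).symm
  rw [e] at h3
  have w : ((pullback.fst φ τ ⁻¹ᵁ φ ⁻¹ᵁ V).ι ≫ pullback.snd φ τ) ≫ τ = ((pullback.fst φ τ ∣_ (φ ⁻¹ᵁ V)) ≫ (φ ∣_ V)) ≫ V.ι := by
    rw [h3.w, Category.assoc]
  have h5 : IsPullback (h4.lift _ _ w) (pullback.fst φ τ ∣_ (φ ⁻¹ᵁ V)) (τ ∣_ V) (φ ∣_ V) := by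
    refine IsPullback.of_right ?_ (h4.lift_snd _ _ w) h4
    rw [h4.lift_fst]
    exact h3
  exact P.of_isPullback h5 h

/-- A section over a nonempty open of a finite morphism extends if the base is normal. -/
theorem exists_lift {Y P X₂ : Scheme.{u}} [IsIntegral Y] [IsLocallyNoetherian Y]
    (hY : ∀ y : Y, IsIntegrallyClosed (Y.presheaf.stalk y)) (ρ : X₂ ⟶ P) [IsFinite ρ] (σ₁ : Y ⟶ P) (R : P.Opens)
    [IsIso (ρ ∣_ R)] (hR : σ₁ (genericPoint Y) ∈ R) : ∃ σ : Y ⟶ X₂, σ ≫ ρ = σ₁ := by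
  let W : Y.Opens := σ₁ ⁻¹ᵁ R
  have hne : Nonempty W := ⟨⟨genericPoint Y, hR⟩⟩
  have hW : IsIntegral (W : Scheme.{u}) := inferInstance
  let sW : (W : Scheme.{u}) ⟶ X₂ := (σ₁ ∣_ R) ≫ inv (ρ ∣_ R) ≫ (ρ ⁻¹ᵁ R).ι
  have hsW : sW ≫ ρ = W.ι ≫ σ₁ := by
    rw [Category.assoc, Category.assoc, ← morphismRestrict_ι ρ R, IsIso.inv_hom_id_assoc, morphismRestrict_ι σ₁ R]
  have hiso : IsIso W.ι.fromNormalization :=
    Groth.Agent.Ega3B.NormalBirational.isIso_fromNormalization hY W.ι (genericPoint_eq_of_isOpenImmersion _) inferInstance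
  have H : W.ι = pullback.lift sW W.ι hsW ≫ pullback.snd ρ σ₁ := (pullback.lift_snd _ _ _).symm
  refine ⟨inv W.ι.fromNormalization ≫ W.ι.normalizationDesc _ _ H ≫ pullback.fst ρ σ₁, ?_⟩
  rw [Category.assoc, Category.assoc, pullback.condition, ← Category.assoc (W.ι.normalizationDesc _ _ H),
    W.ι.normalizationDesc_comp, IsIso.inv_hom_id_assoc]

section section_

variable {X Y : Scheme.{u}} [IsIntegral X] [IsIntegral Y] (ψ : X ⟶ Y) (σ : Y ⟶ X) (hσ : σ ≫ ψ = 𝟙 Y)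

include hσ in
theorem app_comp (V : Y.Opens) : ∃ (g : Γ(X, ψ ⁻¹ᵁ V) →+* Γ(Y, V)), ∀ a, g ((ψ.app V).hom a) = a := by
  have h : V ≤ σ ⁻¹ᵁ (ψ ⁻¹ᵁ V) := by
    rw [← Scheme.Hom.comp_preimage, hσ, Scheme.Hom.id_preimage]
  have key : ∀ (f : Y ⟶ Y) (_ : f = 𝟙 Y) (e : V ≤ f ⁻¹ᵁ V), f.appLE V V e = 𝟙 _ := by
    rintro _ rfl e
    rw [Scheme.Hom.appLE, Scheme.Hom.id_app]
    exact (Category.id_comp _).trans (Y.presheaf.map_id _)
  refine ⟨(σ.appLE (ψ ⁻¹ᵁ V) V h).hom, fun a => ?_⟩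
  have h1 : ψ.app V ≫ σ.appLE (ψ ⁻¹ᵁ V) V h = 𝟙 _ := by
    rw [← Scheme.Hom.comp_appLE]
    exact key _ hσ _
  exact congrArg (fun f => f.hom a) h1

include hσ in
theorem isIso_app [UniversallyClosed ψ] (V : Y.Opens) : IsIso (ψ.app V) := by
  refine Groth.Agent.S2422.isIso_app_of_affine ψ (fun V hV => ?_) V
  obtain ⟨g, hg⟩ := app_comp ψ σ hσ V
  rw [ConcreteCategory.isIso_iff_bijective]
  refine ⟨Function.LeftInverse.injective hg, ?_⟩
  by_cases hne : (V : Set Y).Nonempty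
  · obtain ⟨y, hy⟩ := hne
    have hne' : Nonempty (ψ ⁻¹ᵁ V) := by
      refine ⟨⟨σ y, ?_⟩⟩
      change ψ (σ y) ∈ V
      rw [← Scheme.Hom.comp_apply, hσ]
      exact hy
    have hdom : IsDomain Γ(X, ψ ⁻¹ᵁ V) := inferInstance
    have hint := Groth.Agent.S2422.isIntegral_app_of_universallyClosed ψ V hV
    have hker : ∀ b, g b = 0 → b = 0 := by
      algebraize [(ψ.app V).hom]
      have : Nonempty V := ⟨⟨y, hy⟩⟩
      have hI : (RingHom.ker g).comap (algebraMap Γ(Y, V) Γ(X, ψ ⁻¹ᵁ V)) = ⊥ := by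
        ext r
        rw [Ideal.mem_comap, RingHom.mem_ker, Ideal.mem_bot]
        exact ⟨fun h => (hg r).symm.trans h, fun h => (hg r).trans h⟩
      have h1 := Ideal.eq_bot_of_comap_eq_bot hI
      intro b hb
      have h2 : b ∈ RingHom.ker g := hb
      rwa [h1, Ideal.mem_bot] at h2
    intro b
    refine ⟨g b, ?_⟩
    have h1 := hker (b - (ψ.app V).hom (g b)) (by rw [map_sub, hg, sub_self])
    exact (sub_eq_zero.1 h1).symm
  · have hV0 : V = ⊥ := by
      ext y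
      exact ⟨fun hy => (hne ⟨y, hy⟩).elim, fun hy => hy.elim⟩
    subst hV0
    intro b
    have h1 : Subsingleton Γ(X, ψ ⁻¹ᵁ ⊥) :=
      CommRingCat.subsingleton_of_isTerminal (X.sheaf.isTerminalOfEqEmpty rfl)
    exact ⟨0, Subsingleton.elim _ _⟩

include hσ in
theorem isPreconnected_fibre [IsProper ψ] [IsLocallyNoetherian Y] (y : Y) : _root_.IsPreconnected (ψ ⁻¹' {y}) := by
  have := (Groth.Agent.S2431.result ψ (isIso_app ψ σ hσ)).2
  exact (ψ.isConnected_preimage_singleton y).isPreconnected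

end section_

end K31.SectA
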