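import Groth.Agent.Vanish.K31.SectA
import Groth.Agent.Resolve.K377.NormSch
import Groth.Agent.Resolve.K375.NagSch
import Groth.Agent.Variety.K427.GenSmoothZero
import Groth.Agent.Variety.K430.DomDim
import Groth.Agent.VarietyA.RegSmoothSch
import Groth.Agent.CohqA.IntClosed
import Groth.Agent.Ega1.ReducedSub
import Groth.Agent.An.H526.T3Norm
import Groth.Agent.S2080
import Groth.Agent.Flat2E.GenericQS
import Groth.Agent.S0414
import Groth.Agent.Sga2lef.H134.DimCl

/-!
# Pieces of the construction of models with sections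

* `exists_norm`: normalization of a variety over a field of characteristic zero, an isomorphism over a given regular open;
* `exists_point`: a smooth closed point of the generic fibre;
* `exists_finite_flat_open`: a proper morphism with one-point generic fibre is finite and flat over a nonempty open;
* `dim_eq_of_rtd`.
-/

set_option autoImplicit false
universe u

open CategoryTheory CategoryTheory.Limits AlgebraicGeometry TopologicalSpace

namespace K31.SectB

open Groth.Agent Groth.Agent.CycB.RelDim

section dim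

variable {k : Type u} [Field k]

theorem isField_top : IsField Γ(Spec (CommRingCat.of k), ⊤) :=
  ((Scheme.ΓSpecIso (CommRingCat.of k)).commRingCatIsoToRingEquiv.toMulEquiv.isField (Field.toIsField k))

/-- The dimension of a variety is the transcendence degree of its function field. -/
theorem exists_dim {X : Scheme.{u}} (x : X ⟶ Spec (CommRingCat.of k)) [LocallyOfFiniteType x] [IrreducibleSpace X] :
    ∃ n : ℕ, rtd x (genericPoint X) = n ∧ topologicalKrullDim X = n := by
  obtain ⟨n, hn, hd⟩ := exists_dim_closure x (isAffineOpen_top _) isField_top (genericPoint X)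
  refine ⟨n, hn, ?_⟩
  rw [← hd, show closure ({genericPoint X} : Set X) = Set.univ from genericPoint_closure X]
  exact (IsHomeomorph.topologicalKrullDim_eq _ (Homeomorph.Set.univ X).isHomeomorph).symm

theorem dim_eq_of_rtd {X Y : Scheme.{u}} (x : X ⟶ Spec (CommRingCat.of k)) [LocallyOfFiniteType x] [IrreducibleSpace X]
    (y : Y ⟶ Spec (CommRingCat.of k)) [LocallyOfFiniteType y] [IrreducibleSpace Y]
    (h : rtd x (genericPoint X) = rtd y (genericPoint Y)) : topologicalKrullDim X = topologicalKrullDim Y := by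
  obtain ⟨n, hn, hd⟩ := exists_dim x
  obtain ⟨m, hm, hd'⟩ := exists_dim y
  rw [hn, hm] at h
  rw [hd, hd']
  exact_mod_cast h

theorem rtd_eq_of_dim {X Y : Scheme.{u}} (x : X ⟶ Spec (CommRingCat.of k)) [LocallyOfFiniteType x] [IrreducibleSpace X]
    (y : Y ⟶ Spec (CommRingCat.of k)) [LocallyOfFiniteType y] [IrreducibleSpace Y]
    (h : topologicalKrullDim X = topologicalKrullDim Y) : rtd x (genericPoint X) = rtd y (genericPoint Y) := by
  obtain ⟨n, hn, hd⟩ := exists_dim x
  obtain ⟨m, hm, hd'⟩ := exists_dim y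
  rw [hd, hd'] at h
  rw [hn, hm]
  exact_mod_cast h

end dim

/-- Surjective morphisms of irreducible schemes preserve generic points. -/
theorem map_genericPoint {X Y : Scheme.{u}} [IrreducibleSpace X] [IrreducibleSpace Y] (f : X ⟶ Y) [Surjective f] :
    f (genericPoint X) = genericPoint Y := by
  refine ((genericPoint_spec X).image f.continuous).eq ?_
  rw [Set.image_univ, f.surjective.range_eq, closure_univ]
  exact genericPoint_spec Y

theorem surjective_of_map_genericPoint {X Y : Scheme.{u}} [IrreducibleSpace X] [IrreducibleSpace Y] (f : X ⟶ Y)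
    [UniversallyClosed f] (h : f (genericPoint X) = genericPoint Y) : Surjective f := by
  refine ⟨Set.range_eq_univ.1 (Set.univ_subset_iff.1 ?_)⟩
  have h1 : IsClosed (Set.range f) := f.isClosedMap.isClosed_range
  rw [← (genericPoint_spec Y).def]
  exact h1.closure_subset_iff.2 (Set.singleton_subset_iff.2 ⟨_, h⟩)

section smooth

variable {k : Type u} [Field k] [CharZero k]

/-- In characteristic zero the regular locus of a scheme locally of finite type is the smooth locus. -/
theorem isOpen_regular {X : Scheme.{u}} (x : X ⟶ Spec (CommRingCat.of k)) [LocallyOfFinitePresentation x] :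
    IsOpen {t : X | IsRegularLocalRing (X.presheaf.stalk t)} := by
  have h : {t : X | IsRegularLocalRing (X.presheaf.stalk t)} = (x.smoothLocus : Set X) := by
    ext t
    refine ⟨fun ht => ?_, fun ht => VarietyA.RegSmoothSch.isRegularLocalRing_stalk_of_mem_smoothLocus x t ht⟩
    have := K427.GenSmooth.perfectField_functionField k (𝟙 (Spec (CommRingCat.of k)))
    exact K427.GenSmooth.mem_smoothLocus_of_eq_genericPoint x t (Subsingleton.elim _ _) ht
  rw [h]
  exact x.smoothLocus.isOpen

theorem isIntegral_of_dense {X Y : Scheme.{u}} (π : X ⟶ Y) [IsIntegral Y] (U : Y.Opens)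
    (hU : (U : Set Y).Nonempty) [IsIso (π ∣_ U)] (hd : Dense ((π ⁻¹ᵁ U : X.Opens) : Set X)) [IsReduced X] :
    IsIntegral X := by
  have : Nonempty U.toScheme := ⟨⟨hU.some, hU.some_mem⟩⟩
  have h1 : IsIntegral U.toScheme := isIntegral_of_isOpenImmersion U.ι
  have h2 : Nonempty (π ⁻¹ᵁ U).toScheme := ⟨(inv (π ∣_ U)) (Classical.arbitrary _)⟩
  have h3 : IsIntegral (π ⁻¹ᵁ U).toScheme := isIntegral_of_isOpenImmersion (π ∣_ U)
  have h4 : IsIrreducible ((π ⁻¹ᵁ U : X.Opens) : Set X) := by
    have h6 := (IrreducibleSpace.isIrreducible_univ (π ⁻¹ᵁ U).toScheme).image (π ⁻¹ᵁ U).ι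
      (π ⁻¹ᵁ U).ι.continuous.continuousOn
    rwa [Set.image_univ, Scheme.Opens.range_ι] at h6
  have h6 : IrreducibleSpace X := by
    have h7 := h4.closure
    rw [hd.closure_eq] at h7
    exact (irreducibleSpace_def X).2 h7
  exact isIntegral_of_irreducibleSpace_of_isReduced X

/-- Normalization of a variety in characteristic zero. -/
theorem exists_norm {X : Scheme.{u}} (x : X ⟶ Spec (CommRingCat.of k)) [IsIntegral X] [IsProper x] :
    ∃ (X' : Scheme.{u}) (ρ : X' ⟶ X), IsIntegral X' ∧ IsFinite ρ ∧ Surjective ρ ∧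
      (∀ z : X', IsIntegrallyClosed (X'.presheaf.stalk z)) ∧
      ∀ U : X.Opens, (∀ t : X, t ∈ U → IsRegularLocalRing (X.presheaf.stalk t)) → IsIso (ρ ∣_ U) := by
  have : IsLocallyNoetherian X := LocallyOfFiniteType.isLocallyNoetherian x
  have : CompactSpace X := QuasiCompact.compactSpace_of_compactSpace x
  have : IsNoetherian X := {}
  have : X.IsSeparated := by
    refine ⟨?_⟩
    have : terminal.from X = x ≫ terminal.from _ := Subsingleton.elim _ _
    rw [this]
    infer_instance
  have : LocallyOfFinitePresentation x := inferInstance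
  have hk : K375.NagSch.IsNag (Spec (CommRingCat.of k)) :=
    K375.NagSch.isNag_Spec (A := CommRingCat.of k) (Groth.Agent.An.H526.T3.isNagata_field k)
  obtain ⟨X', ρ, hρ, hn, hiso, U, hU, hUd, hUd'⟩ := K377.NormSch.exists_norm (X := X)
    (K375.NagSch.isNag_of_locallyOfFiniteType x hk) (isOpen_regular x)
  have hred : IsReduced X' := by
    have : ∀ z : X', _root_.IsReduced (X'.presheaf.stalk z) := fun z => by
      have := (hn z).1
      infer_instance
    exact isReduced_of_isReduced_stalk _
  have := hiso U hU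
  have hint : IsIntegral X' := isIntegral_of_dense ρ U hUd.nonempty hUd'
  refine ⟨X', ρ, hint, hρ, ?_, fun z => (hn z).2, hiso⟩
  refine surjective_of_map_genericPoint ρ ?_
  obtain ⟨t, ht⟩ := hUd.nonempty
  have hη : genericPoint X ∈ U := ((genericPoint_spec X).mem_open_set_iff U.isOpen).mpr ⟨t, trivial, ht⟩
  obtain ⟨w, hw⟩ : ∃ w : (ρ ⁻¹ᵁ U).toScheme, (ρ ∣_ U) w = (⟨genericPoint X, hη⟩ : U.toScheme) :=
    (ρ ∣_ U).surjective _
  let z : X' := (ρ ⁻¹ᵁ U).ι w
  have hz : ρ z = genericPoint X := by
    have h2 : ρ z = U.ι ((ρ ∣_ U) w) := congrArg (fun f : (ρ ⁻¹ᵁ U).toScheme ⟶ X => f w) (morphismRestrict_ι ρ U).symm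
    rw [h2, hw]
    rfl
  have h1 : ρ (genericPoint X') ⤳ ρ z := (genericPoint_specializes z).map ρ.continuous
  rw [hz] at h1
  exact (h1.antisymm (genericPoint_specializes _)).eq

/-- A smooth closed point of the generic fibre. -/
theorem exists_point {X P : Scheme.{u}} (x : X ⟶ Spec (CommRingCat.of k)) (p : P ⟶ Spec (CommRingCat.of k)) [IsIntegral X]
    [IsIntegral P] [IsProper x] [IsProper p] (φ : X ⟶ P) [Surjective φ] (hφ : φ ≫ p = x) :
    ∃ (U : X.Opens) (v : X), v ∈ U ∧ Smooth (U.ι ≫ φ) ∧ φ v = genericPoint P ∧ rtd φ v = 0 := by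
  obtain ⟨U, hU, hs⟩ := K427.GenSmooth.exists_open_smooth_of_dominant k x p φ hφ φ.surjective.denseRange
  have : IsLocallyNoetherian X := LocallyOfFiniteType.isLocallyNoetherian x
  have : IsProper (φ ≫ p) := by rw [hφ]; infer_instance
  have : IsProper φ := IsProper.of_comp φ p
  have hη : genericPoint X ∈ U := by
    obtain ⟨t, ht⟩ := hU
    exact ((genericPoint_spec X).mem_open_set_iff U.isOpen).mpr ⟨t, trivial, ht⟩
  obtain ⟨z, hz⟩ := K430.DomDim.exists_closed_point_fiber (U.ι ≫ φ) (genericPoint P) ⟨genericPoint X, hη⟩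
    (map_genericPoint φ)
  have hr := K430.DomDim.rtd_eq_zero (U.ι ≫ φ) _ z hz
  have hv : (U.ι ≫ φ) ((U.ι ≫ φ).fiberι (genericPoint P) z) = genericPoint P := by
    have : (U.ι ≫ φ).fiberι (genericPoint P) z ∈ Set.range ((U.ι ≫ φ).fiberι (genericPoint P)) := ⟨z, rfl⟩
    rw [Scheme.Hom.range_fiberι] at this
    exact this
  refine ⟨U, U.ι ((U.ι ≫ φ).fiberι (genericPoint P) z), ((U.ι ≫ φ).fiberι (genericPoint P) z).2, hs, hv, ?_⟩
  rw [rtd_comp] at hr
  exact (add_eq_zero.1 hr).1

end smooth

/-- A proper morphism of integral schemes whose generic fibre is one point is finite and flat over a nonempty open. -/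
theorem exists_finite_flat_open {Y P : Scheme.{u}} (τ : Y ⟶ P) [IsProper τ] [IsIntegral P]
    [IrreducibleSpace Y] (h : ∀ y : Y, τ y = genericPoint P → y = genericPoint Y) :
    ∃ V : P.Opens, genericPoint P ∈ V ∧ IsFinite (τ ∣_ V) ∧ Flat (τ ∣_ V) := by
  let η := genericPoint P
  have hηirr : closure {η} ∈ irreducibleComponents P := by
    rw [show closure {η} = Set.univ from genericPoint_closure P, irreducibleComponents_eq_singleton]
    rfl
  obtain ⟨V, hV, hηV, hfin⟩ := (S2080.result τ η hηirr).1
    ((Set.finite_singleton (genericPoint Y)).subset fun y hy => h y hy)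
  obtain ⟨W, hW, hflat, hfp⟩ := S0414.result τ
  have hηW : η ∈ W := by
    obtain ⟨t, ht⟩ := hW.nonempty
    exact ((genericPoint_spec P).mem_open_set_iff W.2).mpr ⟨t, trivial, ht⟩
  exact ⟨V ⊓ W, ⟨hηV, hηW⟩, Flat2E.GenericQS.restrict_of_le @IsFinite _ inf_le_left hfin,
    Flat2E.GenericQS.restrict_of_le @Flat _ inf_le_right hflat⟩

end K31.SectB
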