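import Groth.Agent.Vanish.K31.Cover
import Groth.Agent.Vanish.K31.ArrowUp
import Groth.Agent.Vanish.K31.FinInt
import Groth.Agent.VarietyB.GGStalk
import Groth.Agent.Ega2.GlobGenCrit
import Groth.Agent.Flat2B.SmoothGeom
import Groth.Agent.Divis.SurfConn
import Groth.Agent.VarietyB.HHPush

/-!
# Reduction of the twisted vanishing theorems to the untwisted ones

`exists_setup`: for `L`, `D = Σ α_j D_j`, `α_j < N` on a projective manifold `X`, there are a finite surjective `τ : Z ⟶ X`, `Z` a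
projective manifold of the same dimension, and `L₁` on `Z` with `L₁^N = τ^*(L^N(-D))` such that vanishing and surjectivity for
`L₁⁻¹` imply those for `L⁻¹`; cohomology of invertible modules injects under `τ^*`.
-/

set_option autoImplicit false
universe u

open CategoryTheory CategoryTheory.Limits AlgebraicGeometry Opposite TopologicalSpace

namespace K31.Setup

open Groth.Agent Groth.Agent.Grpsch.PicGrp Groth.Agent.Fga.JacFactor Groth.Agent.Divis.EffCartier K31.HNat K31.NatRet K31.Cover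

theorem isQCoh_inv {X : Scheme.{u}} {L : X.Modules} (hL : PicF.IsInvertible L) : Coh.IsQCoh L :=
  Groth.Agent.Ega2.QCohLocal.isQCoh_of_isInvertible hL

/-- The class of an inverse. -/
theorem mk_inv {X : Scheme.{u}} {L M : X.Modules} (hL : PicF.IsInvertible L) (hM : PicF.IsInvertible M)
    (h : ClSub.IsInverseOf L M) : mk L hL = (mk M hM)⁻¹ :=
  eq_inv_of_mul_eq_one_left ((isInverseOf_iff hL hM).1 h)

theorem isInvertible_left {X : Scheme.{u}} {L M : X.Modules} (h : ClSub.IsInverseOf L M) : PicF.IsInvertible L :=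
  (Groth.Agent.Dix.IdealModCartier.isInvertible_of_isInverseOf h).1

theorem isIntegral_of_smooth (k : Type u) [Field k] (X : Scheme.{u}) (f : X ⟶ Spec (CommRingCat.of k)) [Smooth f]
    [IrreducibleSpace X] : IsIntegral X := by
  have : IsReduced X := Flat2B.SmoothGeom.isReduced_of_smooth f
  exact isIntegral_of_irreducibleSpace_of_isReduced X

section inject

variable {k : Type u} [Field k] {X Z : Scheme.{u}} [X.Over (Spec (CommRingCat.of k))] [Z.Over (Spec (CommRingCat.of k))]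
  (τ : Z ⟶ X) [IsFinite τ]

/-- The linear form of the injection of cohomology: a module is a direct summand of the push-forward of its pull-back. -/
theorem exists_retr {e : ℕ} (he : FlatMod.IsFinLocFreeOfRank e (Trace.pushO τ)) (hunit : IsUnit (e : Γ(X, ⊤)))
    {E : X.Modules} (hE : PicF.IsInvertible E) :
    ∃ (u : E ⟶ (Scheme.Modules.pushforward τ).obj ((Scheme.Modules.pullback τ).obj E))
      (r : (Scheme.Modules.pushforward τ).obj ((Scheme.Modules.pullback τ).obj E) ⟶ E), u ≫ r = 𝟙 E := by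
  obtain ⟨j, ρ, hjρ, -⟩ := Ret.exists_retract τ he hunit ⊤ ⊤ 1 (by
      rw [pow_one]
      intro U
      rw [show ((⊤ : X.IdealSheafData).comap τ) = ⊤ from by
        have h := Groth.Agent.Divis.IdealComap.comap_pow (⊤ : X.IdealSheafData) τ 0
        rwa [pow_zero, pow_zero] at h]) le_top
    (fun x O hx => by
      obtain ⟨V, hV, hxV, hVO⟩ := exists_isAffineOpen_mem_and_subset hx
      exact ⟨⟨V, hV⟩, hxV, hVO, fun y _ => Submodule.mem_top⟩)
  have h𝒦 := Groth.Agent.Dix.IdealModCartier.isInvertible_idealMod (X := X) isEff_top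
  have hG := Groth.Agent.Dix.IdealModCartier.isInvertible_idealMod (X := Z) isEff_top
  obtain ⟨Kinv, hKi, ⟨ε⟩⟩ := exists_inverse h𝒦
  have hup := ArrowUp.isInvertible_up τ hKi hG hE
  have hEZ := Fdesc.LocGen.isInvertible_pullback τ hE
  have hcl : mk _ hup = mk _ hEZ := by
    have h1 : mk _ hup = pull τ (mk E hE * mk Kinv hKi) * dcl ⊤ isEff_top := rfl
    have h2 : mk Kinv hKi = 1 := by
      have h3 := (isInverseOf_iff h𝒦 hKi).1 ⟨ε⟩
      have h4 : mk _ h𝒦 = 1 := dcl_top
      rwa [h4, one_mul] at h3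
    rw [h1, h2, mul_one, dcl_top, mul_one]
    rfl
  obtain ⟨i⟩ := (mk_eq_iff _ _).1 hcl
  refine ⟨uu τ (Ega2.Tens.swap _ _ ≪≫ ε) j E ≫ (Scheme.Modules.pushforward τ).map i.hom,
    (Scheme.Modules.pushforward τ).map i.inv ≫ rr τ (Ega2.Tens.swap _ _ ≪≫ ε) ρ (isQCoh_inv hE) (isQCoh_inv hKi) (isQCoh_inv hG), ?_⟩
  rw [Category.assoc, ← Category.assoc ((Scheme.Modules.pushforward τ).map i.hom), ← Functor.map_comp, i.hom_inv_id,
    CategoryTheory.Functor.map_id, Category.id_comp]
  exact uu_rr τ _ hjρ _ _ _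

/-- Cohomology of invertible modules injects. -/
theorem finrank_le [IsProper (Z ↘ Spec (CommRingCat.of k))] (hτ : τ ≫ (X ↘ Spec (CommRingCat.of k)) = Z ↘ Spec (CommRingCat.of k))
    {e : ℕ} (he : FlatMod.IsFinLocFreeOfRank e (Trace.pushO τ)) (hunit : IsUnit (e : Γ(X, ⊤)))
    {E : X.Modules} (hE : PicF.IsInvertible E) (b : ℕ) :
    Module.finrank k (Coh.HH X E b) ≤ Module.finrank k (Coh.HH Z ((Scheme.Modules.pullback τ).obj E) b) := by
  obtain ⟨u, r, hur⟩ := exists_retr τ he hunit hE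
  have hEZ := Fdesc.LocGen.isInvertible_pullback τ hE
  obtain ⟨e1⟩ := VarietyB.HHPush.exists_linearEquiv τ k hτ _ (isQCoh_inv hEZ) b
  let φ : Coh.HH X E b →ₗ[k] Coh.HH Z ((Scheme.Modules.pullback τ).obj E) b :=
    e1.toLinearMap ∘ₗ (VarietyB.HHLes.toHH k _ b).toLinearMap ∘ₗ VarietyB.HHLes.Hmap k u b ∘ₗ
      (VarietyB.HHLes.toHH k E b).symm.toLinearMap
  have hinj : Function.Injective φ := by
    have h1 : Function.Injective (VarietyB.HHLes.Hmap k u b) := by
      have h2 : (VarietyB.HHLes.Hmap k r b).comp (VarietyB.HHLes.Hmap k u b) = LinearMap.id := by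
        rw [← VarietyB.HHLes.Hmap_comp, hur, VarietyB.HHLes.Hmap_id]
      exact Function.LeftInverse.injective (g := VarietyB.HHLes.Hmap k r b) fun x => congrArg (fun f => f x) h2
    exact e1.injective.comp ((VarietyB.HHLes.toHH k _ b).injective.comp (h1.comp (VarietyB.HHLes.toHH k E b).symm.injective))
  have hfin : Module.Finite k (Coh.HH Z ((Scheme.Modules.pullback τ).obj E) b) :=
    S0002.result k Z _ (CycB.DegCurve.isCoh_of_isInvertible hEZ) b
  exact LinearMap.finrank_le_finrank_of_injective hinj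

theorem subsingleton_of_pullback {e : ℕ} (he : FlatMod.IsFinLocFreeOfRank e (Trace.pushO τ)) (hunit : IsUnit (e : Γ(X, ⊤)))
    {E : X.Modules} (hE : PicF.IsInvertible E) {b : ℕ}
    (h : Subsingleton (Coh.HH Z ((Scheme.Modules.pullback τ).obj E) b)) : Subsingleton (Coh.HH X E b) := by
  obtain ⟨u, r, hur⟩ := exists_retr τ he hunit hE
  exact subsingleton_of_retract u r hur
    (subsingleton_push τ (isQCoh_inv (Fdesc.LocGen.isInvertible_pullback τ hE)) h)

end inject

/-- **Reduction to the untwisted case.** -/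
theorem exists_setup {k : Type u} [Field k] [IsAlgClosed k] [CharZero k] (hKaw : Kaw.{u} k)
    (X : Scheme.{u}) [X.Over (Spec (CommRingCat.of k))] [IsProper (X ↘ Spec (CommRingCat.of k))]
    [Smooth (X ↘ Spec (CommRingCat.of k))] [IrreducibleSpace X] (n : ℕ) (hn : topologicalKrullDim X = n)
    (H : X.Modules) (hH : CohB1.IsAmple H)
    (L Linv : X.Modules) (hL : PicF.IsInvertible L) (hLinv : ClSub.IsInverseOf Linv L)
    (N : ℕ) (hN : 1 ≤ N) {r : ℕ} (D : Fin r → X.IdealSheafData) (hD : LogNCD.IsNCD D (X ↘ Spec (CommRingCat.of k)))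
    (α : Fin r → ℕ) (hα : ∀ j, α j < N) :
    ∃ (Z : Scheme.{u}) (_ : Z.Over (Spec (CommRingCat.of k))) (τ : Z ⟶ X)
      (_ : τ ≫ (X ↘ Spec (CommRingCat.of k)) = Z ↘ Spec (CommRingCat.of k)) (_ : IsProper (Z ↘ Spec (CommRingCat.of k)))
      (_ : Smooth (Z ↘ Spec (CommRingCat.of k))) (_ : IsIntegral Z) (_ : IsFinite τ) (_ : Surjective τ)
      (_ : topologicalKrullDim Z = n) (HZ : Z.Modules) (_ : CohB1.IsAmple HZ) (L₁ L₁inv : Z.Modules)
      (hL₁ : PicF.IsInvertible L₁) (_ : ClSub.IsInverseOf L₁inv L₁)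
      (hM : PicF.IsInvertible (CohB1.tensorMod (CohB1.tensorPow L N) (ClSub.idealMod (∏ j, D j ^ α j)))),
      mk L₁ hL₁ ^ N = pull τ (mk _ hM) ∧
      (∀ I : X.IdealSheafData, BlowUp.IsEffCartierIdeal I → BlowUp.IsEffCartierIdeal (I.comap τ) ∧
        ∀ b : ℕ, Surj (LogNCD.inclTwist L₁inv (I.comap τ)) b → Surj (LogNCD.inclTwist Linv I) b) ∧
      (∀ b : ℕ, Subsingleton (Coh.HH Z L₁inv b) → Subsingleton (Coh.HH X Linv b)) ∧
      (∀ (E : X.Modules), PicF.IsInvertible E → ∀ b : ℕ,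
        Module.finrank k (Coh.HH X E b) ≤ Module.finrank k (Coh.HH Z ((Scheme.Modules.pullback τ).obj E) b)) ∧
      (∀ (E : X.Modules), PicF.IsInvertible E → ∀ b : ℕ,
        Subsingleton (Coh.HH Z ((Scheme.Modules.pullback τ).obj E) b) → Subsingleton (Coh.HH X E b)) := by
  have hX : IsIntegral X := isIntegral_of_smooth k X (X ↘ Spec (CommRingCat.of k))
  have hXc : CompactSpace X := (quasiCompact_iff_compactSpace (X ↘ (Spec (CommRingCat.of k)))).mp inferInstance
  obtain ⟨Z, τ, hZ, hsm, hfin, hsurj, e, he, he0, E, hE, 𝒦, Kinv, h𝒦, hKi, G, hG, ε, j, ρ, hjρ, hDE, hcl⟩ :=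
    exists_cover hKaw (X ↘ Spec (CommRingCat.of k)) H hH D hD N hN α hα
  letI : Z.Over (Spec (CommRingCat.of k)) := ⟨τ ≫ (X ↘ Spec (CommRingCat.of k))⟩
  have hτ : τ ≫ (X ↘ Spec (CommRingCat.of k)) = Z ↘ Spec (CommRingCat.of k) := rfl
  have hprop : IsProper (Z ↘ Spec (CommRingCat.of k)) := by rw [← hτ]; infer_instance
  have hunit : IsUnit (e : Γ(X, ⊤)) := by
    have h1 : IsUnit ((e : k)) := by
      rw [isUnit_iff_ne_zero]
      exact Nat.cast_ne_zero.2 he0.ne'
    have h2 := h1.map ((Scheme.ΓSpecIso (CommRingCat.of k)).inv ≫ (X ↘ Spec (CommRingCat.of k)).appTop).hom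
    rwa [map_natCast] at h2
  have hLi := isInvertible_left hLinv
  have hDeff : BlowUp.IsEffCartierIdeal (∏ j, D j ^ α j) :=
    isEff_prod _ _ fun j _ => Cover.isEff_pow (K911.Ncd.isEff_of_isNCD hD j) _
  have hLZ := Fdesc.LocGen.isInvertible_pullback τ hL
  have hEi := Groth.Agent.Dix.IdealModCartier.isInvertible_idealMod hE
  have hL₁ : PicF.IsInvertible (CohB1.tensorMod ((Scheme.Modules.pullback τ).obj L) (ClSub.idealMod E)) :=
    Fdesc.LocGen.isInvertible_tensorMod hLZ hEi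
  have hup := ArrowUp.isInvertible_up τ hKi hG hLi
  have hM : PicF.IsInvertible (CohB1.tensorMod (CohB1.tensorPow L N) (ClSub.idealMod (∏ j, D j ^ α j))) :=
    Fdesc.LocGen.isInvertible_tensorMod (Fdesc.LocGen.isInvertible_tensorPow hL N)
      (Groth.Agent.Dix.IdealModCartier.isInvertible_idealMod hDeff)
  have hmk1 : mk _ hL₁ = pull τ (mk L hL) * dcl E hE := rfl
  refine ⟨Z, inferInstance, τ, hτ, hprop, hsm, hZ, hfin, hsurj, ?_, (Scheme.Modules.pullback τ).obj H,
    CohqB.AmpCocycle.isAmple_pullback τ hH, CohB1.tensorMod ((Scheme.Modules.pullback τ).obj L) (ClSub.idealMod E),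
    up τ Kinv G Linv, hL₁, ?_, hM, ?_, ?_, ?_, ?_, ?_⟩
  · rw [← hn]
    exact Groth.Agent.Sga3C.DimTop.topologicalKrullDim_eq_of_isIntegralHom τ
  · rw [isInverseOf_iff hup hL₁]
    have h1 : mk _ hup = pull τ (mk Linv hLi * mk Kinv hKi) * mk G hG := rfl
    have h2 : mk Linv hLi * mk L hL = 1 := (isInverseOf_iff hLi hL).1 hLinv
    rw [h1, hmk1, map_mul]
    have h3 : pull τ (mk Linv hLi) * pull τ (mk L hL) = 1 := by rw [← map_mul, h2, map_one]
    calc pull τ (mk Linv hLi) * pull τ (mk Kinv hKi) * mk G hG * (pull τ (mk L hL) * dcl E hE)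
        = (pull τ (mk Linv hLi) * pull τ (mk L hL)) * (pull τ (mk Kinv hKi) * mk G hG * dcl E hE) := by
          simp only [mul_left_comm, mul_comm]
      _ = 1 := by rw [h3, hcl, one_mul]
  · have hDc : BlowUp.IsEffCartierIdeal ((∏ j, D j ^ α j).comap τ) := by
      rw [hDE]
      exact Cover.isEff_pow hE N
    have h1 : mk _ hM = mk L hL ^ N * dcl _ hDeff := by
      rw [← mk_tensorPow hL]
      rfl
    rw [hmk1, mul_pow, h1, map_mul, map_pow, pull_dcl τ hDeff hDc, ← dcl_pow hE N (Cover.isEff_pow hE N)]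
    congr 1
    exact (dcl_congr hDE hDc).symm
  · intro I hI
    have hI' : BlowUp.IsEffCartierIdeal (I.comap τ) := Divis.SurfConn.isEff_comap_of_surjective τ hI
    refine ⟨hI', fun b hs => ?_⟩
    obtain ⟨i, hi⟩ := ArrowUp.exists_iso_up τ hKi hG hLi hI hI'
    have hLiI := Fdesc.LocGen.isInvertible_tensorMod hLi (Groth.Agent.Dix.IdealModCartier.isInvertible_idealMod hI)
    have h1 : Surj (upMap τ Kinv G (LogNCD.inclTwist Linv I)) b := by
      refine Surj.of_iso i (Iso.refl _) ?_ hs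
      rw [Iso.refl_hom, Category.comp_id]
      exact hi.symm
    exact surj_of_up τ ε hjρ (isQCoh_inv hLiI) (isQCoh_inv hLi) (isQCoh_inv hKi) (isQCoh_inv hG) _ h1
  · intro b h
    exact subsingleton_of_up τ ε hjρ (isQCoh_inv hLi) (isQCoh_inv hKi) (isQCoh_inv hG) h
  · intro E hE b
    exact finrank_le τ hτ he hunit hE b
  · intro E hE b h
    exact subsingleton_of_pullback τ he hunit hE h

end K31.Setup
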